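import Cfsg.Agent.Lib.LyOut55.Inst
import Cfsg.Agent.Lib.LyDC.Main

set_option autoImplicit false

/-! The inputs from the double coset bound and the order of the group. -/

namespace Cfsg.LyOut55

open Cfsg.Agent.Lib LyDC

/-- the tokens are the listed generators and their inverses -/
noncomputable def tokIdx (k : ℕ) : ℕ := k / 2 + 8 * (k % 2)

/-- token `k` agrees with the listed word -/
noncomputable def tokChk (k : ℕ) : Bool :=
  LyDC.tabs.same LyDC.base (LyDC.nth [] LyDC.tokWords k) ((Wd.lgW.getD (tokIdx k) []).map Nat.succ) &&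
  LyDC.tabs.same LyDC.base (LyDC.nth [] LyDC.imgWords k) ((Wd.imW.getD (tokIdx k) []).map Nat.succ)

theorem tokChk_all : (List.range 16).all tokChk = true := by decide +kernel

theorem inv_word : (List.range 8).all (fun i =>
    Wd.chk (Wd.lgW.getD i [] ++ Wd.lgW.getD (i + 8) []) []) = true := by decide +kernel

variable {G : Type} [Group G]

theorem tok_eval (hI : LyDC.BaseInj) {k : ℕ} (hk : k < 16) :
    LyDC.rep.ev (LyDC.nth [] LyDC.tokWords k) = ((Wd.lgW.getD (tokIdx k) []).map LyDC.rep.f).prod ∧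
    LyDC.rep.ev (LyDC.nth [] LyDC.imgWords k) = ((Wd.imW.getD (tokIdx k) []).map LyDC.rep.f).prod := by
  have h := List.all_eq_true.1 tokChk_all k (List.mem_range.2 hk)
  rw [tokChk, Bool.and_eq_true] at h
  have e1 := LyDC.rep.eq_of_same LyDC.base_lt hI h.1
  have e2 := LyDC.rep.eq_of_same LyDC.base_lt hI h.2
  rw [Base.ev_eq (Base.vg _)] at e1
  rw [Base.ev_eq (Base.valid_getD Wd.valid_imW _)] at e2
  exact ⟨e1, e2⟩

theorem fix_le_closure (hI : LyDC.BaseInj) (hc : Nat.card LyDC.Hbar ≤ 5859000000) {x : LyDC.Hbar}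
    (hx : LyDC.rep.pt x 0 = 0) :
    x ∈ Subgroup.closure {y : LyDC.Hbar | ∃ i < 8, y = ((Wd.lgW.getD i []).map LyDC.rep.f).prod} := by
  have hx' : x ∈ LyDC.tokGroup := by
    rw [(LyDC.fix_zero_eq hI hc).2]
    intro p hp
    rw [List.mem_singleton.1 hp]
    exact hx
  set C := Subgroup.closure {y : LyDC.Hbar | ∃ i < 8, y = ((Wd.lgW.getD i []).map LyDC.rep.f).prod} with hC
  have hi : ∀ i < 8, ((Wd.lgW.getD i []).map LyDC.rep.f).prod ∈ C :=
    fun i h => Subgroup.subset_closure ⟨i, h, rfl⟩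
  refine (show LyDC.tokGroup ≤ C from (Subgroup.closure_le _).2 ?_) hx'
  rintro _ ⟨k, hk, rfl⟩
  rw [(tok_eval hI hk).1]
  rcases Nat.lt_or_ge (tokIdx k) 8 with h | h
  · exact hi _ h
  · have h16 : tokIdx k < 16 := by unfold tokIdx; omega
    have hchk := List.all_eq_true.1 inv_word (tokIdx k - 8) (List.mem_range.2 (by omega))
    rw [Nat.sub_add_cancel h] at hchk
    have e := LyDC.rep.eq_of_same LyDC.base_lt hI hchk
    rw [Base.ev_eq (Base.valid_append.2 ⟨Base.vg _, Base.vg _⟩), List.map_append, List.prod_append] at e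
    show _ ∈ (C : Set LyDC.Hbar)
    rw [eq_inv_of_mul_eq_one_right (e.trans (LyDC.Rep.ev_nil LyDC.rep))]
    exact inv_mem (hi _ (by omega))

section Count

variable (C : LyDC.Ctx G)

/-- a double coset -/
def dcoset (j : ℕ) : Set G := {g | ∃ x y : LyDC.Hbar, C.φ x * C.W j * C.φ y = g}

theorem dcoset_le [Finite G] (j : ℕ) :
    Nat.card (dcoset C j) * Nat.card (C.S j) ≤ Nat.card LyDC.Hbar * Nat.card LyDC.Hbar := by
  have hs : ∀ s : C.S j, ∃ t : LyDC.Hbar, C.W j * C.φ s * (C.W j)⁻¹ = C.φ t := fun s => by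
    obtain ⟨t, ht⟩ := (s.2 : C.W j * C.φ s * (C.W j)⁻¹ ∈ C.φ.range)
    exact ⟨t, ht.symm⟩
  choose σ hσ using hs
  have he : ∀ g : dcoset C j, ∃ p : LyDC.Hbar × LyDC.Hbar, C.φ p.1 * C.W j * C.φ p.2 = g.1 := fun g => by
    obtain ⟨x, y, h⟩ := g.2
    exact ⟨(x, y), h⟩
  choose sec hsec using he
  let f : dcoset C j × C.S j → LyDC.Hbar × LyDC.Hbar := fun q =>
    ((sec q.1).1 * (σ q.2)⁻¹, (q.2 : LyDC.Hbar) * (sec q.1).2)
  have hval : ∀ q : dcoset C j × C.S j, C.φ (f q).1 * C.W j * C.φ (f q).2 = q.1.1 := fun q => by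
    simp only [f, map_mul, map_inv, ← hσ, ← hsec q.1]
    group
  have hf : Function.Injective f := by
    rintro ⟨g, s⟩ ⟨g', s'⟩ h
    have hg : g = g' := Subtype.ext (by rw [← hval (g, s), ← hval (g', s'), h])
    subst hg
    exact Prod.ext rfl (Subtype.ext (mul_right_cancel (congrArg Prod.snd h)))
  have := Nat.card_le_card_of_injective f hf
  rwa [Nat.card_prod, Nat.card_prod] at this

theorem exists_form (hc : Nat.card LyDC.Hbar ≤ 5859000000)
    (hgen : Subgroup.closure ((C.φ.range : Set G) ∪ {C.z}) = ⊤) (g : G) :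
    ∃ j : Fin 5, g ∈ dcoset C j := by
  obtain ⟨j, hj, h, e⟩ := C.reach_all hc hgen g
  obtain ⟨a, ha⟩ := (e : g * (C.W j * C.φ h)⁻¹ ∈ C.φ.range)
  exact ⟨⟨j, hj⟩, a, h, by rw [ha]; group⟩

theorem sum_ge [Finite G] (hc : Nat.card LyDC.Hbar ≤ 5859000000)
    (hgen : Subgroup.closure ((C.φ.range : Set G) ∪ {C.z}) = ⊤) :
    Nat.card G ≤ Nat.card (dcoset C 0) + Nat.card (dcoset C 1) + Nat.card (dcoset C 2) +
      Nat.card (dcoset C 3) + Nat.card (dcoset C 4) := by
  have h : Nat.card G ≤ Nat.card (Σ j : Fin 5, dcoset C j) := by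
    refine Nat.card_le_card_of_surjective (fun q => (q.2 : G)) fun g => ?_
    obtain ⟨j, hj⟩ := exists_form C hc hgen g
    exact ⟨⟨j, g, hj⟩, rfl⟩
  rwa [Nat.card_sigma, Fin.sum_univ_five] at h

theorem stab_card_eq [Finite G] (hc : Nat.card LyDC.Hbar = 5859000000)
    (hgen : Subgroup.closure ((C.φ.range : Set G) ∪ {C.z}) = ⊤)
    (hG : 51765179004000000 ≤ Nat.card G) :
    ∀ j < 5, Nat.card (C.S j) = LyDC.Ctx.stabOrder j := by
  have hle := C.stabOrder_le hc
  have hd : ∀ j < 5, Nat.card (dcoset C j) * LyDC.Ctx.stabOrder j ≤ 34327881000000000000 := by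
    intro j hj
    have h1 := dcoset_le C j
    have h2 := Nat.mul_le_mul_left (Nat.card (dcoset C j)) (hle j hj)
    rw [hc] at h1
    exact le_trans h2 (h1.trans (le_of_eq (by norm_num)))
  have hsum := sum_ge C hc.le hgen
  have d0 := hd 0 (by norm_num)
  have d1 := hd 1 (by norm_num)
  have d2 := hd 2 (by norm_num)
  have d3 := hd 3 (by norm_num)
  have d4 := hd 4 (by norm_num)
  simp only [LyDC.Ctx.stabOrder] at d0 d1 d2 d3 d4
  intro j hj
  refine le_antisymm ?_ (hle j hj)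
  have h1 := dcoset_le C j
  rw [hc] at h1
  interval_cases j
  · rw [show Nat.card (dcoset C 0) = 5859000000 by omega] at h1
    exact Nat.le_of_mul_le_mul_left (c := 5859000000) (h1.trans (le_of_eq (by norm_num [LyDC.Ctx.stabOrder])))
      (by norm_num)
  · rw [show Nat.card (dcoset C 1) = 114426270000000 by omega] at h1
    exact Nat.le_of_mul_le_mul_left (c := 114426270000000) (h1.trans (le_of_eq (by norm_num [LyDC.Ctx.stabOrder])))
      (by norm_num)
  · rw [show Nat.card (dcoset C 2) = 5675906250000000 by omega] at h1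
    exact Nat.le_of_mul_le_mul_left (c := 5675906250000000) (h1.trans (le_of_eq (by norm_num [LyDC.Ctx.stabOrder])))
      (by norm_num)
  · rw [show Nat.card (dcoset C 3) = 11919403125000000 by omega] at h1
    exact Nat.le_of_mul_le_mul_left (c := 11919403125000000) (h1.trans (le_of_eq (by norm_num [LyDC.Ctx.stabOrder])))
      (by norm_num)
  · rw [show Nat.card (dcoset C 4) = 34055437500000000 by omega] at h1
    exact Nat.le_of_mul_le_mul_left (c := 34055437500000000) (h1.trans (le_of_eq (by norm_num [LyDC.Ctx.stabOrder])))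
      (by norm_num)

theorem conj_inter_card (hinj : Function.Injective C.φ) {j : ℕ} {a h : LyDC.Hbar} :
    Nat.card ↥(C.φ.range ⊓
      C.φ.range.map (MulAut.conj (C.φ a * C.W j * C.φ h)).toMonoidHom) = Nat.card (C.S j) := by
  set ψ : LyDC.Hbar →* G := ((MulAut.conj (C.φ a * C.W j)).toMonoidHom).comp C.φ with hψ
  have hψinj : Function.Injective ψ := (MulAut.conj _).injective.comp hinj
  rw [← Subgroup.card_map_of_injective hψinj (K := C.S j)]
  congr 2
  ext k
  have ha : C.φ a ∈ C.φ.range := ⟨a, rfl⟩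
  constructor
  · rintro ⟨hk, y, ⟨t, rfl⟩, rfl⟩
    have hk' : C.φ a * C.W j * C.φ h * C.φ t * (C.φ a * C.W j * C.φ h)⁻¹ ∈ C.φ.range := hk
    refine ⟨h * t * h⁻¹, ?_, ?_⟩
    · show C.W j * C.φ (h * t * h⁻¹) * (C.W j)⁻¹ ∈ C.φ.range
      have hm := mul_mem (mul_mem (inv_mem ha) hk') ha
      convert hm using 1
      rw [map_mul C.φ, map_mul C.φ, map_inv C.φ]
      group
    · show C.φ a * C.W j * C.φ (h * t * h⁻¹) * (C.φ a * C.W j)⁻¹ =
        C.φ a * C.W j * C.φ h * C.φ t * (C.φ a * C.W j * C.φ h)⁻¹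
      rw [map_mul C.φ, map_mul C.φ, map_inv C.φ]
      group
  · rintro ⟨s, hs, rfl⟩
    refine ⟨?_, C.φ (h⁻¹ * s * h), ⟨_, rfl⟩, ?_⟩
    · show C.φ a * C.W j * C.φ s * (C.φ a * C.W j)⁻¹ ∈ C.φ.range
      have hs' : C.W j * C.φ s * (C.W j)⁻¹ ∈ C.φ.range := hs
      have hm := mul_mem (mul_mem ha hs') (inv_mem ha)
      convert hm using 1
      group
    · show C.φ a * C.W j * C.φ h * C.φ (h⁻¹ * s * h) * (C.φ a * C.W j * C.φ h)⁻¹ =
        C.φ a * C.W j * C.φ s * (C.φ a * C.W j)⁻¹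
      rw [map_mul C.φ, map_mul C.φ, map_inv C.φ]
      group

end Count

/-- The inputs, from the context of the derivation. -/
noncomputable def baseOfCtx [Finite G] (C : LyDC.Ctx G) (hinj : Function.Injective C.φ)
    (hc : Nat.card LyDC.Hbar = 5859000000)
    (hgen : Subgroup.closure ((C.φ.range : Set G) ∪ {C.z}) = ⊤)
    (hG : Nat.card G = 51765179004000000) : Base G where
  inj := C.inj
  φ := C.φ
  φinj := hinj
  z := C.z
  stab := fun _ hx => fix_le_closure C.inj hc.le hx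
  conj_z := fun i hi => by
    have h := C.tok (2 * i) (by omega)
    rw [(tok_eval C.inj (k := 2 * i) (by omega)).1, (tok_eval C.inj (k := 2 * i) (by omega)).2,
      show tokIdx (2 * i) = i by unfold tokIdx; omega] at h
    rw [mul_assoc, h, inv_mul_cancel_left]
  z_sq := by rw [pow_two, C.uz]; exact ⟨_, rfl⟩
  z_notMem := fun hz => by
    have h1 := stab_card_eq C hc hgen hG.ge 1 (by norm_num)
    have htop : C.S 1 = ⊤ := eq_top_iff.2 fun s _ => by
      show C.W 1 * C.φ s * (C.W 1)⁻¹ ∈ C.φ.range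
      rw [C.W_one]
      exact mul_mem (mul_mem hz ⟨s, rfl⟩) (inv_mem hz)
    rw [htop, Subgroup.card_top, hc] at h1
    exact absurd h1 (by norm_num [LyDC.Ctx.stabOrder])
  gen := by rw [Set.insert_eq, Set.union_comm]; exact hgen
  card_dvd := by rw [hG]; norm_num
  orbits := fun g => by
    obtain ⟨⟨j, hj⟩, a, h, rfl⟩ := exists_form C hc.le hgen g
    have hcard := conj_inter_card C hinj (j := j) (a := a) (h := h)
    rw [stab_card_eq C hc hgen hG.ge j hj] at hcard
    interval_cases j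
    · left
      have ha : C.φ a ∈ C.φ.range := ⟨a, rfl⟩
      have hh : C.φ h ∈ C.φ.range := ⟨h, rfl⟩
      simpa [LyDC.Ctx.W] using mul_mem ha hh
    · exact Or.inr (Or.inl ⟨C.φ a, ⟨a, rfl⟩, C.φ h, ⟨h, rfl⟩, by rw [C.W_one]⟩)
    all_goals
      refine Or.inr (Or.inr ?_)
      rw [hcard]
      norm_num [LyDC.Ctx.stabOrder]
  edge := fun x hx => by
    have hsq : C.z * C.z ∈ C.φ.range := by rw [C.uz]; exact ⟨_, rfl⟩
    have hs : x ∈ C.S 1 := by
      show C.W 1 * C.φ x * (C.W 1)⁻¹ ∈ C.φ.range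
      rw [C.W_one]
      have := mul_mem (mul_mem hsq hx) (inv_mem hsq)
      rwa [show C.z * C.z * (C.z⁻¹ * C.φ x * C.z) * (C.z * C.z)⁻¹ = C.z * C.φ x * C.z⁻¹ by group] at this
    have e1 : LyDC.imgGroup = C.S 1 := by
      refine Subgroup.eq_of_le_of_card_ge C.img_le_S ?_
      rw [stab_card_eq C hc hgen hG.ge 1 (by norm_num)]
      exact LyDC.img_card C.inj
    rw [← e1, (LyDC.fix_zero_eq C.inj hc.le).1] at hs
    exact hs 0 (by simp)

end Cfsg.LyOut55
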