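import Mathlib

set_option autoImplicit false

/-! Generic lemmas for layered finite `p`-groups inside a finite group. -/

open scoped commutatorElement

namespace Cfsg.LyOut55

variable {G : Type*} [Group G]

theorem mem_normalizer_of_forall [Finite G] {N : Subgroup G} {g : G}
    (h : ∀ x ∈ N, g * x * g⁻¹ ∈ N) : g ∈ Subgroup.normalizer (N : Set G) := by
  rw [Subgroup.mem_normalizer_iff_map_conj_eq]
  refine Subgroup.eq_of_le_of_card_ge ?_ ?_
  · rintro y ⟨x, hx, rfl⟩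
    exact h x hx
  · exact (Subgroup.card_map_of_injective (MulAut.conj g).injective).ge

theorem conj_mem_of_norm {N : Subgroup G} {g x : G} (hg : g ∈ Subgroup.normalizer (N : Set G))
    (hx : x ∈ N) : g * x * g⁻¹ ∈ N :=
  (Subgroup.mem_normalizer_iff.1 hg x).1 hx

theorem conj_mem_of_norm' {N : Subgroup G} {g x : G} (hg : g ∈ Subgroup.normalizer (N : Set G))
    (hx : x ∈ N) : g⁻¹ * x * g ∈ N :=
  (Subgroup.mem_normalizer_iff''.1 hg x).1 hx

theorem norm_zpowers_sup [Finite G] {N : Subgroup G} {g u : G}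
    (hg : g ∈ Subgroup.normalizer (N : Set G))
    (hu : g * u * g⁻¹ ∈ Subgroup.zpowers u ⊔ N) :
    g ∈ Subgroup.normalizer ((Subgroup.zpowers u ⊔ N : Subgroup G) : Set G) := by
  refine mem_normalizer_of_forall fun x hx => ?_
  have h : (Subgroup.zpowers u ⊔ N).map (MulAut.conj g).toMonoidHom ≤ Subgroup.zpowers u ⊔ N := by
    rw [Subgroup.map_sup, MonoidHom.map_zpowers]
    refine sup_le (Subgroup.zpowers_le.2 hu) ?_
    rintro y ⟨z, hz, rfl⟩
    exact Subgroup.mem_sup_right (conj_mem_of_norm hg hz)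
  exact h ⟨x, hx, rfl⟩

theorem norm_of_commutator [Finite G] {N : Subgroup G} {g u : G}
    (hg : g ∈ Subgroup.normalizer (N : Set G)) (hu : ⁅g, u⁆ ∈ Subgroup.zpowers u ⊔ N) :
    g ∈ Subgroup.normalizer ((Subgroup.zpowers u ⊔ N : Subgroup G) : Set G) := by
  refine norm_zpowers_sup hg ?_
  have h := Subgroup.mul_mem _ hu (Subgroup.mem_sup_left (T := N) (Subgroup.mem_zpowers u))
  rwa [show ⁅g, u⁆ * u = g * u * g⁻¹ by rw [commutatorElement_def]; group] at h

theorem exists_pow_mul [Finite G] {N : Subgroup G} {u x : G} {p : ℕ} (hp : 0 < p) (hup : u ^ p = 1)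
    (hu : u ∈ Subgroup.normalizer (N : Set G)) (hx : x ∈ Subgroup.zpowers u ⊔ N) :
    ∃ i, i < p ∧ ∃ n ∈ N, x = u ^ i * n := by
  have hle : Subgroup.zpowers u ≤ Subgroup.normalizer (N : Set G) := Subgroup.zpowers_le.2 hu
  rw [← SetLike.mem_coe, Subgroup.coe_mul_of_left_le_normalizer_right _ _ hle] at hx
  obtain ⟨y, hy, n, hn, rfl⟩ := Set.mem_mul.1 hx
  obtain ⟨i, rfl⟩ := (isOfFinOrder_of_finite u).mem_powers_iff_mem_zpowers.2 hy
  refine ⟨i % p, Nat.mod_lt _ hp, n, hn, ?_⟩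
  show u ^ i * n = _
  rw [pow_eq_pow_mod i hup]

theorem pow_mem_imp {N : Subgroup G} {u : G} {p i : ℕ} (hp : p.Prime) (hup : u ^ p = 1) (hu : u ∉ N)
    (hi : u ^ i ∈ N) : p ∣ i := by
  by_contra hd
  apply hu
  have hc : Nat.gcd i p = 1 := ((Nat.Prime.coprime_iff_not_dvd hp).2 hd).symm
  have h := Nat.gcd_eq_gcd_ab i p
  rw [hc] at h
  have : u = (u ^ i) ^ (Nat.gcdA i p) := by
    calc u = u ^ ((1 : ℕ) : ℤ) := by simp
      _ = _ := by
        rw [h, zpow_add, zpow_mul, zpow_mul, zpow_natCast, zpow_natCast, hup, one_zpow, mul_one]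
  rw [this]
  exact Subgroup.zpow_mem _ hi _

theorem pow_eq_one_imp {u : G} {p i : ℕ} (hp : p.Prime) (hup : u ^ p = 1) (hu : u ≠ 1)
    (hi : u ^ i = 1) : p ∣ i :=
  pow_mem_imp (N := ⊥) hp hup (by simpa using hu) (by simpa using hi)

theorem card_zpowers_sup [Finite G] {N : Subgroup G} {u : G} {p : ℕ} (hp : p.Prime) (hup : u ^ p = 1)
    (hu : u ∈ Subgroup.normalizer (N : Set G)) (hnot : u ∉ N) :
    Nat.card ↥(Subgroup.zpowers u ⊔ N) = p * Nat.card N := by
  let f : Fin p × N → ↥(Subgroup.zpowers u ⊔ N) := fun q =>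
    ⟨u ^ (q.1 : ℕ) * (q.2 : G), Subgroup.mul_mem _
      (Subgroup.mem_sup_left (Subgroup.npow_mem_zpowers u _)) (Subgroup.mem_sup_right q.2.2)⟩
  have hinj : Function.Injective f := by
    rintro ⟨i, n⟩ ⟨j, m⟩ h
    have h' : u ^ (i : ℕ) * (n : G) = u ^ (j : ℕ) * m := congrArg Subtype.val h
    have hm : u ^ ((p - (j : ℕ)) + i) ∈ N := by
      have : u ^ ((p - (j : ℕ)) + i) = (m : G) * (n : G)⁻¹ := by
        rw [pow_add, eq_mul_inv_iff_mul_eq, mul_assoc, h', ← mul_assoc, ← pow_add,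
          Nat.sub_add_cancel j.isLt.le, hup, one_mul]
      rw [this]
      exact N.mul_mem m.2 (N.inv_mem n.2)
    obtain ⟨k, hk⟩ := pow_mem_imp hp hup hnot hm
    have hij : (i : ℕ) = j := by
      have := i.isLt; have := j.isLt
      rcases Nat.lt_or_ge k 2 with hk2 | hk2
      · interval_cases k <;> omega
      · have : p * 2 ≤ p * k := Nat.mul_le_mul_left p hk2
        omega
    have : i = j := Fin.ext hij
    subst this
    rw [Prod.mk.injEq]
    exact ⟨rfl, Subtype.ext (mul_left_cancel h')⟩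
  have hsurj : Function.Surjective f := by
    rintro ⟨x, hx⟩
    obtain ⟨i, hi, n, hn, rfl⟩ := exists_pow_mul hp.pos hup hu hx
    exact ⟨(⟨i, hi⟩, ⟨n, hn⟩), rfl⟩
  rw [← Nat.card_eq_of_bijective f ⟨hinj, hsurj⟩, Nat.card_prod, Nat.card_fin]

theorem commute_of_mem_closure {S : Set G} {x y : G} (hy : y ∈ Subgroup.closure S)
    (h : ∀ s ∈ S, Commute x s) : Commute x y := by
  induction hy using Subgroup.closure_induction with
  | mem s hs => exact h s hs
  | one => exact Commute.one_right x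
  | mul a b _ _ ha hb => exact ha.mul_right hb
  | inv a _ ha => exact ha.inv_right

theorem commute_of_mem_sup {A B : Subgroup G} {x y : G} (hy : y ∈ A ⊔ B)
    (hA : ∀ a ∈ A, Commute x a) (hB : ∀ b ∈ B, Commute x b) : Commute x y := by
  have h : A ⊔ B ≤ Subgroup.centralizer {x} :=
    sup_le (fun a ha => Subgroup.mem_centralizer_singleton_iff.2 (hA a ha).eq.symm)
      (fun b hb => Subgroup.mem_centralizer_singleton_iff.2 (hB b hb).eq.symm)
  exact (Subgroup.mem_centralizer_singleton_iff.1 (h hy)).symm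

theorem commute_zpowers {x a u : G} (h : Commute x u) (ha : a ∈ Subgroup.zpowers u) : Commute x a := by
  obtain ⟨k, rfl⟩ := ha
  exact h.zpow_right k

/-- Elements of `S` commuting with `V` modulo `N`. -/
theorem commutator_mem_sup_left {N : Subgroup G} {x : G} {A B : Subgroup G}
    (hN : A ⊔ B ≤ Subgroup.normalizer (N : Set G))
    (hA : ∀ a ∈ A, ⁅x, a⁆ ∈ N) (hB : ∀ b ∈ B, ⁅x, b⁆ ∈ N) {y : G} (hy : y ∈ A ⊔ B) :
    ⁅x, y⁆ ∈ N := by
  let S : Subgroup G :=
    { carrier := {y | y ∈ A ⊔ B ∧ ⁅x, y⁆ ∈ N}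
      one_mem' := ⟨one_mem _, by simp⟩
      mul_mem' := by
        rintro a b ⟨ha, ha'⟩ ⟨hb, hb'⟩
        refine ⟨mul_mem ha hb, ?_⟩
        rw [show ⁅x, a * b⁆ = ⁅x, a⁆ * (a * ⁅x, b⁆ * a⁻¹) by simp only [commutatorElement_def]; group]
        exact N.mul_mem ha' (conj_mem_of_norm (hN ha) hb')
      inv_mem' := by
        rintro a ⟨ha, ha'⟩
        refine ⟨inv_mem ha, ?_⟩
        rw [show ⁅x, a⁻¹⁆ = a⁻¹ * ⁅x, a⁆⁻¹ * a by simp only [commutatorElement_def]; group]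
        exact conj_mem_of_norm' (hN ha) (N.inv_mem ha') }
  have h : A ⊔ B ≤ S :=
    sup_le (fun a ha => ⟨Subgroup.mem_sup_left ha, hA a ha⟩)
      (fun b hb => ⟨Subgroup.mem_sup_right hb, hB b hb⟩)
  exact (h hy).2

theorem commutator_zpow_mem {N : Subgroup G} {x u : G} (hu : u ∈ Subgroup.normalizer (N : Set G))
    (h : ⁅x, u⁆ ∈ N) {a : G} (ha : a ∈ Subgroup.zpowers u) : ⁅x, a⁆ ∈ N := by
  have hle : Subgroup.zpowers u ⊔ ⊥ ≤ Subgroup.normalizer (N : Set G) := by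
    simpa using Subgroup.zpowers_le.2 hu
  let S : Subgroup G :=
    { carrier := {y | y ∈ Subgroup.zpowers u ∧ ⁅x, y⁆ ∈ N}
      one_mem' := ⟨one_mem _, by simp⟩
      mul_mem' := by
        rintro a b ⟨ha, ha'⟩ ⟨hb, hb'⟩
        refine ⟨mul_mem ha hb, ?_⟩
        rw [show ⁅x, a * b⁆ = ⁅x, a⁆ * (a * ⁅x, b⁆ * a⁻¹) by simp only [commutatorElement_def]; group]
        exact N.mul_mem ha' (conj_mem_of_norm (hle (Subgroup.mem_sup_left ha)) hb')
      inv_mem' := by
        rintro a ⟨ha, ha'⟩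
        refine ⟨inv_mem ha, ?_⟩
        rw [show ⁅x, a⁻¹⁆ = a⁻¹ * ⁅x, a⁆⁻¹ * a by simp only [commutatorElement_def]; group]
        exact conj_mem_of_norm' (hle (Subgroup.mem_sup_left ha)) (N.inv_mem ha') }
  have : Subgroup.zpowers u ≤ S := Subgroup.zpowers_le.2 ⟨Subgroup.mem_zpowers u, h⟩
  exact (this ha).2

/-- One layer: an element acting on `zpowers u ⊔ N` modulo `N` as a scalar other than 1. -/
theorem mem_of_commute_layer [Finite G] {N : Subgroup G} {u t x : G} {p c : ℕ} (hp : p.Prime)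
    (hup : u ^ p = 1) (hu : u ∈ Subgroup.normalizer (N : Set G)) (hnot : u ∉ N)
    (ht : ∀ n ∈ N, t⁻¹ * n * t ∈ N) (hc : (t⁻¹ * u * t) * (u ^ c)⁻¹ ∈ N) (hc1 : ¬c ≡ 1 [MOD p])
    (hx : x ∈ Subgroup.zpowers u ⊔ N) (hcomm : Commute x t) : x ∈ N := by
  obtain ⟨i, hi, n, hn, rfl⟩ := exists_pow_mul hp.pos hup hu hx
  have hq : ∀ j : ℕ, (t⁻¹ * u ^ j * t) * ((u ^ c) ^ j)⁻¹ ∈ N := by
    intro j
    induction j with
    | zero => simp
    | succ j ih =>
      have e : (t⁻¹ * u ^ (j + 1) * t) * ((u ^ c) ^ (j + 1))⁻¹ =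
          (t⁻¹ * u ^ j * t * ((u ^ c) ^ j)⁻¹) *
          ((u ^ c) ^ j * (t⁻¹ * u * t * (u ^ c)⁻¹) * ((u ^ c) ^ j)⁻¹) := by
        rw [pow_succ u j, pow_succ (u ^ c) j]; group
      rw [e]
      exact N.mul_mem ih (conj_mem_of_norm
        (Subgroup.pow_mem _ (Subgroup.pow_mem _ hu c) j) hc)
  have h1 : t⁻¹ * (u ^ i * n) * t = u ^ i * n := by
    rw [mul_assoc, hcomm.eq, inv_mul_cancel_left]
  set m := t⁻¹ * n * t with hm
  set q := (t⁻¹ * u ^ i * t) * ((u ^ c) ^ i)⁻¹ with hqdef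
  have h2 : q * (u ^ c) ^ i * m = u ^ i * n := by
    rw [hqdef, hm, ← h1]; group
  have hq' : ((u ^ c) ^ i)⁻¹ * q * (u ^ c) ^ i ∈ N :=
    conj_mem_of_norm' (Subgroup.pow_mem _ (Subgroup.pow_mem _ hu c) i) (hq i)
  have h3 : (u ^ i)⁻¹ * (u ^ c) ^ i ∈ N := by
    have e : (u ^ i)⁻¹ * (u ^ c) ^ i =
        n * (((u ^ c) ^ i)⁻¹ * q * (u ^ c) ^ i * m)⁻¹ := by
      have : n = (u ^ i)⁻¹ * (q * (u ^ c) ^ i * m) := by rw [h2]; group
      conv_rhs => rw [this]
      group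
    rw [e]
    exact N.mul_mem hn (N.inv_mem (N.mul_mem hq' (ht n hn)))
  have hdvd : p ∣ i := by
    by_contra hd
    have h4 : u ^ (c * i + (p - 1) * i) ∈ N := by
      have : u ^ ((p - 1) * i) = (u ^ i)⁻¹ := by
        rw [eq_inv_iff_mul_eq_one, ← pow_add, ← Nat.succ_mul, Nat.succ_eq_add_one,
          Nat.sub_add_cancel hp.one_le, pow_mul, hup, one_pow]
      rw [add_comm, pow_add, this, pow_mul]
      exact h3
    have h5 := pow_mem_imp hp hup hnot h4
    rw [← Nat.add_mul] at h5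
    rcases hp.dvd_mul.1 h5 with h | h
    · apply hc1
      have h6 : c + (p - 1) ≡ 1 + (p - 1) [MOD p] := by
        have : 1 + (p - 1) = p := by have := hp.one_le; omega
        rw [this]
        exact (Nat.modEq_zero_iff_dvd.2 h).trans (Nat.modEq_zero_iff_dvd.2 (dvd_refl p)).symm
      exact Nat.ModEq.add_right_cancel' _ h6
    · exact hd h
  obtain ⟨k, rfl⟩ := hdvd
  rw [pow_mul, hup, one_pow, one_mul]
  exact hn

theorem apply_eq_self_of_closure {β : MulAut G} {S : Set G} (h : ∀ s ∈ S, β s = s) {x : G}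
    (hx : x ∈ Subgroup.closure S) : β x = x := by
  induction hx using Subgroup.closure_induction with
  | mem s hs => exact h s hs
  | one => exact map_one β
  | mul a b _ _ ha hb => rw [map_mul, ha, hb]
  | inv a _ ha => rw [map_inv, ha]

theorem map_eq_of_le [Finite G] {N : Subgroup G} {β : MulAut G}
    (h : ∀ x ∈ N, β x ∈ N) : N.map β.toMonoidHom = N := by
  refine Subgroup.eq_of_le_of_card_ge ?_ (Subgroup.card_map_of_injective β.injective).ge
  rintro y ⟨x, hx, rfl⟩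
  exact h x hx

theorem apply_mem_iff {N : Subgroup G} {β : MulAut G} (h : N.map β.toMonoidHom = N) {x : G} :
    β x ∈ N ↔ x ∈ N := by
  constructor
  · intro hx
    rw [← h] at hx
    obtain ⟨y, hy, hxy⟩ := hx
    exact β.injective hxy ▸ hy
  · intro hx
    rw [← h]
    exact ⟨x, hx, rfl⟩

end Cfsg.LyOut55
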