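import Cfsg.Agent.Lib.LyOut55.Words

/-! Word computations on the 19530 points. -/

set_option autoImplicit false

namespace Cfsg.LyOut55.Wd

open Cfsg.Agent.Lib

/-- inverse of a list of letters -/
def inv8 (w : List ℕ) : List ℕ := (w.map fun l => l ^^^ 1).reverse

/-- power of a list of letters -/
def pw (w : List ℕ) (k : ℕ) : List ℕ := (List.replicate k w).flatten

/-- commutator `x y x⁻¹ y⁻¹` -/
def cm (x y : List ℕ) : List ℕ := x ++ (y ++ (inv8 x ++ inv8 y))

/-- conjugate `g⁻¹ x g` -/
def cj (x g : List ℕ) : List ℕ := inv8 g ++ (x ++ g)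

/-- a sequence in the listed generators, as letters -/
def cat (T : List (List ℕ)) (s : List ℕ) : List ℕ := (s.map fun i => T.getD i []).flatten

/-- first root element -/
abbrev u1 : List ℕ := [2]
/-- second root element -/
abbrev u2 : List ℕ := cat lgW s2
/-- third root element -/
abbrev u3 : List ℕ := cat lgW s3
/-- fourth root element -/
abbrev u4 : List ℕ := cat lgW s4
/-- fifth root element -/
abbrev u5 : List ℕ := cat lgW s5
/-- sixth root element -/
abbrev u6 : List ℕ := cat lgW s6
/-- first torus element -/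
abbrev ta : List ℕ := cat lgW sa
/-- second torus element -/
abbrev tb : List ℕ := cat lgW sb
/-- Weyl element -/
abbrev wW : List ℕ := cat lgW sw

/-- normal form in the centre -/
def nf6 (e : List ℕ) : List ℕ := pw u6 (e.getD 0 0)
/-- normal form of height at least four -/
def nf5 (e : List ℕ) : List ℕ := pw u5 (e.getD 0 0) ++ nf6 e.tail
/-- normal form of height at least three -/
def nf4 (e : List ℕ) : List ℕ := pw u4 (e.getD 0 0) ++ nf5 e.tail
/-- normal form of height at least two -/
def nf3 (e : List ℕ) : List ℕ := pw u3 (e.getD 0 0) ++ nf4 e.tail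
/-- normal form in `Q` -/
def nfQ (e : List ℕ) : List ℕ := pw u2 (e.getD 0 0) ++ nf3 e.tail
/-- normal form in `R` -/
def nfR (e : List ℕ) : List ℕ := pw u1 (e.getD 0 0) ++ nf3 e.tail
/-- normal form in `U` -/
def nfU (e : List ℕ) : List ℕ := pw u1 (e.getD 0 0) ++ nfQ e.tail
/-- normal form in the torus -/
def nfT (e : List ℕ) : List ℕ := pw ta (e.getD 0 0) ++ pw tb (e.getD 1 0)
/-- normal form in the Borel subgroup -/
def nfB (e : List ℕ) : List ℕ := nfT e ++ nfU e.tail.tail

/-- the two words act equally on the base -/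
noncomputable def chk (u v : List ℕ) : Bool :=
  LyDC.tabs.same LyDC.base (u.map Nat.succ) (v.map Nat.succ)

/-- image of a point -/
noncomputable def img (w : List ℕ) (p : ℕ) : ℕ := LyDC.tabs.go (w.map Nat.succ) p

/-- image of point 0 is 0 -/
noncomputable def fix0 (w : List ℕ) : Bool := Nat.beq (img w 0) 0

/-- all letters are valid -/
def valid (w : List ℕ) : Bool := w.all fun l => Nat.blt l 8

/-- the six elements in `Q`, by index -/
def qs : List (List ℕ) := [u2, u3, u4, u5, u6]

theorem valid_lgW : lgW.all valid = true := by decide +kernel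
theorem valid_imW : imW.all valid = true := by decide +kernel
theorem valid_fW : valid fW = true := by decide +kernel

theorem frame_pow : [u1, u2, u3, u4, u5, u6].all (fun u => chk (pw u 5) []) = true ∧
    chk (pw ta 4) [] = true ∧ chk (pw tb 4) [] = true ∧ chk (ta ++ tb) (tb ++ ta) = true ∧
    chk u6 [] = false := by decide +kernel

theorem frame_comm : chk (cm u1 u2) u3 = true ∧ chk (cm u1 u3) u4 = true ∧ chk (cm u1 u4) u5 = true ∧
    chk (cm u2 u5) u6 = true ∧ chk (cm u2 u3) (nf6 c23E) = true ∧ chk (cm u2 u4) (nf6 c24E) = true ∧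
    chk (cm u3 u4) (nf6 c34E) = true := by decide +kernel

theorem frame_commute : [(u1, u5), (u1, u6), (u2, u6), (u3, u5), (u3, u6), (u4, u5), (u4, u6), (u5, u6),
    (ta, u1), (tb, u2)].all (fun q => chk (q.1 ++ q.2) (q.2 ++ q.1)) = true := by decide +kernel

theorem frame_ta : chk (cj u2 ta) (pw u2 2) = true ∧ chk (cj u6 ta) (pw u6 4) = true ∧
    chk (cj u3 ta ++ inv8 (pw u3 2)) (nf4 a3E) = true ∧
    chk (cj u4 ta ++ inv8 (pw u4 2)) (nf5 a4E) = true ∧
    chk (cj u5 ta ++ inv8 (pw u5 2)) (nf6 a5E) = true := by decide +kernel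

theorem frame_tb : chk (cj u1 tb) (pw u1 2) = true ∧ chk (cj u6 tb) (pw u6 3) = true ∧
    chk (cj u3 tb ++ inv8 (pw u3 2)) (nf4 b3E) = true ∧
    chk (cj u4 tb ++ inv8 (pw u4 4)) (nf5 b4E) = true ∧
    chk (cj u5 tb ++ inv8 (pw u5 3)) (nf6 b5E) = true := by decide +kernel

theorem lgW_normalise_Q : (List.range 8).all (fun i => (List.range 5).all fun j =>
    chk (lgW.getD i [] ++ (qs.getD j [] ++ inv8 (lgW.getD i []))) (nfQ ((lqE.getD i []).getD j []))) = true := by
  decide +kernel

theorem z_normalises_Q : (List.range 5).all (fun j =>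
    chk (cat imW ([s2, s3, s4, s5, s6].getD j [])) (nfQ (zqE.getD j []))) = true := by decide +kernel

theorem z_normalises_L : imW.all fix0 = true := by decide +kernel

theorem gens_fix : lgW.all fix0 = true := by decide +kernel

theorem f_normalises_R : (List.range 5).all (fun j =>
    chk (fW ++ ([u1, u3, u4, u5, u6].getD j [] ++ inv8 fW)) (nfR (frE.getD j []))) = true := by decide +kernel

theorem w_normalises_T : chk (wW ++ (ta ++ inv8 wW)) (nfT (wtE.getD 0 [])) = true ∧
    chk (wW ++ (tb ++ inv8 wW)) (nfT (wtE.getD 1 [])) = true := by decide +kernel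

theorem f_normalises_T : chk (fW ++ (ta ++ inv8 fW)) (nfT (ftE.getD 0 [])) = true ∧
    chk (fW ++ (tb ++ inv8 fW)) (nfT (ftE.getD 1 [])) = true := by decide +kernel

theorem coset_table : (List.range 8).all (fun i => (List.range 6).all fun j =>
    ((fun e : List ℕ => Nat.blt (e.getD 0 0) 6 &&
      chk (inv8 (cat lgW (repsS.getD (e.getD 0 0) [])) ++ (lgW.getD i [] ++ cat lgW (repsS.getD j [])))
        (nfB e.tail)) ((covE.getD i []).getD j []))) = true := by decide +kernel

theorem reps_bruhat : [(1, 4, [0, 0, 1, 0, 0, 0, 0, 0]), (2, 0, [0, 0, 0, 0, 0, 0, 0, 0]),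
    (3, 1, [0, 0, 4, 0, 0, 0, 0, 0]), (4, 3, [2, 3, 4, 0, 0, 0, 0, 0]),
    (5, 2, [0, 3, 1, 0, 0, 0, 0, 0])].all (fun q : ℕ × ℕ × List ℕ =>
      chk (cat lgW (repsS.getD q.1 [])) (pw u1 q.2.1 ++ (wW ++ nfB q.2.2))) = true := by decide +kernel

theorem w_not_com : chk (cj u5 wW ++ u5) (u5 ++ cj u5 wW) = false := by decide +kernel

theorem six_good : [0, 2].all (fun r => [s5, s6].all fun s => [u5, u6].all fun v =>
    chk (cj (cat imW s) (cat lgW (repsS.getD r [])) ++ v) (v ++ cj (cat imW s) (cat lgW (repsS.getD r [])))) =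
      true := by decide +kernel

theorem six_bad : [1, 3, 4, 5].all (fun r =>
    ((fun x => !chk (cj u5 x ++ u5) (u5 ++ cj u5 x))
      (cj (cat imW sb) (cat lgW (repsS.getD r []))))) = true := by decide +kernel

theorem u_moves : (List.range 4).all (fun k =>
    !fix0 (cj (lgW.getD (luE.getD k 0) []) (pw u1 (k + 1)))) = true := by decide +kernel

theorem gen_words : chk [0] (inv8 u1 ++ (wW ++ u1)) = true ∧ chk [4] (fW ++ (u1 ++ (u1 ++ fW))) = true ∧
    chk [6] (fW ++ (inv8 wW ++ (fW ++ (inv8 wW ++ (tb ++ fW))))) = true := by decide +kernel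

/-- a second element of the second radical -/
abbrev r2W : List ℕ := nfR [1, 0, 3, 3, 1]
/-- a third element of the second radical -/
abbrev r3W : List ℕ := nfR [1, 1, 1, 2, 3]

/-- the check at a point: fixed by `u3` only if among five points -/
noncomputable def scan3 (p : ℕ) : Bool := !(Nat.beq (img u3 p) p) || Nat.blt p 5

/-- the check at a point: not fixed by all three elements of the second radical -/
noncomputable def scanR (p : ℕ) : Bool :=
  !(Nat.beq (img u1 p) p) || (!(Nat.beq (img r2W p) p) || !(Nat.beq (img r3W p) p))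

theorem scan3_0 : LyDC.rangeB scan3 9765 0 = true := by decide +kernel
theorem scan3_1 : LyDC.rangeB scan3 9765 9765 = true := by decide +kernel
theorem scanR_0 : LyDC.rangeB scanR 9765 0 = true := by decide +kernel
theorem scanR_1 : LyDC.rangeB scanR 9765 9765 = true := by decide +kernel

theorem five_points : (List.range 5).all (fun p => (List.range 5).any fun k =>
    Nat.beq (img (inv8 (pw u1 k)) 0) p) = true := by decide +kernel

end Cfsg.LyOut55.Wd
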