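import Cfsg.Agent.Lib.LyOut55.Main
import Cfsg.Agent.Lib.LyOut55.Checks

set_option autoImplicit false

/-! The configuration from the action of `⟨a, b, c, d⟩` on 19530 points and three coset facts. -/

open scoped commutatorElement

namespace Cfsg.LyOut55

open Cfsg.Agent.Lib

/-- The inputs. -/
structure Base (G : Type*) [Group G] where
  inj : LyDC.rep.Inj LyDC.base
  φ : LyDC.Hbar →* G
  φinj : Function.Injective φ
  z : G
  stab : ∀ x : LyDC.Hbar, LyDC.rep.pt x 0 = 0 →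
    x ∈ Subgroup.closure {y : LyDC.Hbar | ∃ i < 8, y = ((Wd.lgW.getD i []).map LyDC.rep.f).prod}
  conj_z : ∀ i < 8, z⁻¹ * φ (((Wd.lgW.getD i []).map LyDC.rep.f).prod) * z =
    φ (((Wd.imW.getD i []).map LyDC.rep.f).prod)
  z_sq : z ^ 2 ∈ φ.range
  z_notMem : z ∉ φ.range
  gen : Subgroup.closure (insert z (φ.range : Set G)) = ⊤
  card_dvd : ¬5 ^ 7 ∣ Nat.card G
  orbits : ∀ g : G, g ∈ φ.range ∨ (∃ h ∈ φ.range, ∃ h' ∈ φ.range, g = h * z * h') ∨
    ¬5 ^ 5 ∣ Nat.card ↥(φ.range ⊓ φ.range.map (MulAut.conj g).toMonoidHom)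
  edge : ∀ x : LyDC.Hbar, z⁻¹ * φ x * z ∈ φ.range → LyDC.rep.pt x 0 = 0

namespace Base

variable {G : Type*} [Group G] (B : Base G)

/-- A word as an element of `G`. -/
noncomputable def E (w : List ℕ) : G := B.φ ((w.map LyDC.rep.f).prod)

theorem E_nil : B.E [] = 1 := by simp [E]

theorem E_append (u v : List ℕ) : B.E (u ++ v) = B.E u * B.E v := by simp [E]

theorem E_pw (w : List ℕ) (k : ℕ) : B.E (Wd.pw w k) = B.E w ^ k := by
  induction k with
  | zero => simp [Wd.pw, E]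
  | succ k ih =>
    rw [show Wd.pw w (k + 1) = w ++ Wd.pw w k by simp [Wd.pw, List.replicate_succ], E_append, ih, pow_succ']

theorem valid_iff {w : List ℕ} : Wd.valid w = true ↔ ∀ l ∈ w, l < 8 := by
  simp [Wd.valid, List.all_eq_true]

theorem valid_append {u v : List ℕ} :
    Wd.valid (u ++ v) = true ↔ Wd.valid u = true ∧ Wd.valid v = true := by simp [Wd.valid]

theorem valid_inv8 {w : List ℕ} (h : Wd.valid w = true) : Wd.valid (Wd.inv8 w) = true := by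
  rw [valid_iff] at h ⊢
  intro l hl
  simp only [Wd.inv8, List.mem_reverse, List.mem_map] at hl
  obtain ⟨m, hm, rfl⟩ := hl
  exact (LyDC.invL_spec m (h m hm)).1

theorem E_inv8 : ∀ {w : List ℕ}, Wd.valid w = true → B.E (Wd.inv8 w) = (B.E w)⁻¹
  | [], _ => by simp [Wd.inv8, E]
  | l :: w, h => by
    have h' : l < 8 ∧ Wd.valid w = true := by simpa [Wd.valid] using h
    have e : Wd.inv8 (l :: w) = Wd.inv8 w ++ [l ^^^ 1] := by simp [Wd.inv8]
    rw [e, E_append, E_inv8 h'.2, show l :: w = [l] ++ w from rfl, E_append, mul_inv_rev]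
    congr 1
    simp [E, LyDC.rep_inv h'.1]

theorem decodeC_single (l : ℕ) (h : l < 8) : LyDC.decodeC 64 (l + 1) = [l] := by
  interval_cases l <;> decide

theorem decode_succ : ∀ w : List ℕ, (∀ l ∈ w, l < 8) → LyDC.decode (w.map Nat.succ) = w
  | [], _ => rfl
  | l :: w, h => by
    rw [List.map_cons, LyDC.decode_cons, decode_succ w fun m hm => h m (by simp [hm]),
      decodeC_single l (h l (by simp))]
    rfl

theorem ev_eq {w : List ℕ} (hw : Wd.valid w = true) :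
    LyDC.rep.ev (w.map Nat.succ) = (w.map LyDC.rep.f).prod := by
  rw [LyDC.Rep.ev, decode_succ w (valid_iff.1 hw)]

theorem E_eq (B : Base G) {u v : List ℕ} (hu : Wd.valid u = true) (hv : Wd.valid v = true)
    (h : Wd.chk u v = true) : B.E u = B.E v := by
  have := LyDC.rep.eq_of_same LyDC.base_lt B.inj h
  rw [ev_eq hu, ev_eq hv] at this
  exact congrArg B.φ this

theorem E_ne (B : Base G) {u v : List ℕ} (hu : Wd.valid u = true) (hv : Wd.valid v = true)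
    (h : Wd.chk u v = false) : B.E u ≠ B.E v := by
  intro e
  have e' := B.φinj e
  rw [← ev_eq hu, ← ev_eq hv, ← LyDC.rep.same_iff LyDC.base_lt B.inj] at e'
  rw [Wd.chk, e'] at h
  exact absurd h (by simp)

theorem img_eq {w : List ℕ} (hw : Wd.valid w = true) {p : ℕ} (hp : p < 19530) :
    Wd.img w p = LyDC.rep.pt ((w.map LyDC.rep.f).prod) p := by
  rw [Wd.img, LyDC.rep.go_eq _ _ hp, ev_eq hw]

theorem valid_pw {w : List ℕ} (h : Wd.valid w = true) (k : ℕ) : Wd.valid (Wd.pw w k) = true := by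
  rw [valid_iff] at h ⊢
  intro l hl
  simp only [Wd.pw, List.mem_flatten] at hl
  obtain ⟨m, hm, hlm⟩ := hl
  rw [(List.mem_replicate.1 hm).2] at hlm
  exact h l hlm

theorem valid_getD {T : List (List ℕ)} (hT : T.all Wd.valid = true) (i : ℕ) :
    Wd.valid (T.getD i []) = true := by
  rw [List.all_eq_true] at hT
  rw [List.getD_eq_getElem?_getD]
  rcases h : T[i]? with _ | w
  · simp [Wd.valid]
  · exact hT w (List.mem_of_getElem? h)

theorem valid_cat {T : List (List ℕ)} (hT : T.all Wd.valid = true) (s : List ℕ) :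
    Wd.valid (Wd.cat T s) = true := by
  rw [valid_iff]
  intro l hl
  simp only [Wd.cat, List.mem_flatten, List.mem_map] at hl
  obtain ⟨m, ⟨i, -, rfl⟩, hlm⟩ := hl
  exact valid_iff.1 (valid_getD hT i) l hlm

theorem vlg (s : List ℕ) : Wd.valid (Wd.cat Wd.lgW s) = true := valid_cat Wd.valid_lgW s
theorem vim (s : List ℕ) : Wd.valid (Wd.cat Wd.imW s) = true := valid_cat Wd.valid_imW s
theorem vg (i : ℕ) : Wd.valid (Wd.lgW.getD i []) = true := valid_getD Wd.valid_lgW i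
theorem v1 : Wd.valid Wd.u1 = true := by decide
theorem vf : Wd.valid Wd.fW = true := Wd.valid_fW

theorem vn6 (e : List ℕ) : Wd.valid (Wd.nf6 e) = true := valid_pw (vlg _) _
theorem vn5 (e : List ℕ) : Wd.valid (Wd.nf5 e) = true := valid_append.2 ⟨valid_pw (vlg _) _, vn6 _⟩
theorem vn4 (e : List ℕ) : Wd.valid (Wd.nf4 e) = true := valid_append.2 ⟨valid_pw (vlg _) _, vn5 _⟩
theorem vn3 (e : List ℕ) : Wd.valid (Wd.nf3 e) = true := valid_append.2 ⟨valid_pw (vlg _) _, vn4 _⟩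
theorem vnQ (e : List ℕ) : Wd.valid (Wd.nfQ e) = true := valid_append.2 ⟨valid_pw (vlg _) _, vn3 _⟩
theorem vnR (e : List ℕ) : Wd.valid (Wd.nfR e) = true := valid_append.2 ⟨valid_pw v1 _, vn3 _⟩
theorem vnU (e : List ℕ) : Wd.valid (Wd.nfU e) = true := valid_append.2 ⟨valid_pw v1 _, vnQ _⟩
theorem vnT (e : List ℕ) : Wd.valid (Wd.nfT e) = true :=
  valid_append.2 ⟨valid_pw (vlg _) _, valid_pw (vlg _) _⟩
theorem vnB (e : List ℕ) : Wd.valid (Wd.nfB e) = true := valid_append.2 ⟨vnT _, vnU _⟩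

theorem E_cm {u v : List ℕ} (hu : Wd.valid u = true) (hv : Wd.valid v = true) :
    B.E (Wd.cm u v) = ⁅B.E u, B.E v⁆ ∧ Wd.valid (Wd.cm u v) = true := by
  refine ⟨?_, ?_⟩
  · rw [Wd.cm, E_append, E_append, E_append, E_inv8 B hu, E_inv8 B hv, commutatorElement_def]
    simp only [mul_assoc]
  · simp [Wd.cm, valid_append, valid_inv8 hu, valid_inv8 hv, hu, hv]

theorem E_cj {u g : List ℕ} (hu : Wd.valid u = true) (hg : Wd.valid g = true) :
    B.E (Wd.cj u g) = (B.E g)⁻¹ * B.E u * B.E g ∧ Wd.valid (Wd.cj u g) = true := by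
  refine ⟨?_, ?_⟩
  · rw [Wd.cj, E_append, E_append, E_inv8 B hg, mul_assoc]
  · simp [Wd.cj, valid_append, valid_inv8 hg, hu, hg]

theorem E_cj_pw {u g : List ℕ} {k : ℕ} (hu : Wd.valid u = true) (hg : Wd.valid g = true)
    {n : List ℕ} (hn : Wd.valid n = true) (h : Wd.chk (Wd.cj u g ++ Wd.inv8 (Wd.pw u k)) n = true) :
    (B.E g)⁻¹ * B.E u * B.E g * (B.E u ^ k)⁻¹ = B.E n := by
  have e := B.E_eq (valid_append.2 ⟨(B.E_cj hu hg).2, valid_inv8 (valid_pw hu k)⟩) hn h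
  rwa [E_append, (B.E_cj hu hg).1, E_inv8 B (valid_pw hu k), E_pw] at e

theorem commute_E {u v : List ℕ} (hu : Wd.valid u = true) (hv : Wd.valid v = true)
    (h : Wd.chk (u ++ v) (v ++ u) = true) : Commute (B.E u) (B.E v) := by
  have e := B.E_eq (valid_append.2 ⟨hu, hv⟩) (valid_append.2 ⟨hv, hu⟩) h
  rwa [E_append, E_append] at e

theorem nf6_mem (e : List ℕ) : B.E (Wd.nf6 e) ∈ Subgroup.zpowers (B.E Wd.u6) := by
  rw [Wd.nf6, E_pw]; exact Subgroup.npow_mem_zpowers _ _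

theorem nf5_mem (e : List ℕ) :
    B.E (Wd.nf5 e) ∈ Subgroup.zpowers (B.E Wd.u5) ⊔ Subgroup.zpowers (B.E Wd.u6) := by
  rw [Wd.nf5, E_append, E_pw]
  exact mul_mem (Subgroup.mem_sup_left (Subgroup.npow_mem_zpowers _ _)) (Subgroup.mem_sup_right (B.nf6_mem _))

theorem nf4_mem (e : List ℕ) : B.E (Wd.nf4 e) ∈
    Subgroup.zpowers (B.E Wd.u4) ⊔ (Subgroup.zpowers (B.E Wd.u5) ⊔ Subgroup.zpowers (B.E Wd.u6)) := by
  rw [Wd.nf4, E_append, E_pw]
  exact mul_mem (Subgroup.mem_sup_left (Subgroup.npow_mem_zpowers _ _)) (Subgroup.mem_sup_right (B.nf5_mem _))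

theorem all_get {α : Type} {l : List α} {p : α → Bool} (h : l.all p = true) {x : α} (hx : x ∈ l) :
    p x = true := List.all_eq_true.1 h x hx

/-- The frame. -/
noncomputable def frame : UFrame G where
  u1 := B.E Wd.u1
  u2 := B.E Wd.u2
  u3 := B.E Wd.u3
  u4 := B.E Wd.u4
  u5 := B.E Wd.u5
  u6 := B.E Wd.u6
  ta := B.E Wd.ta
  tb := B.E Wd.tb
  p1 := by rw [← E_pw, ← E_nil B]; exact B.E_eq (valid_pw v1 5) rfl (all_get Wd.frame_pow.1 (by simp))
  p2 := by rw [← E_pw, ← E_nil B]; exact B.E_eq (valid_pw (vlg _) 5) rfl (all_get Wd.frame_pow.1 (by simp))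
  p3 := by rw [← E_pw, ← E_nil B]; exact B.E_eq (valid_pw (vlg _) 5) rfl (all_get Wd.frame_pow.1 (by simp))
  p4 := by rw [← E_pw, ← E_nil B]; exact B.E_eq (valid_pw (vlg _) 5) rfl (all_get Wd.frame_pow.1 (by simp))
  p5 := by rw [← E_pw, ← E_nil B]; exact B.E_eq (valid_pw (vlg _) 5) rfl (all_get Wd.frame_pow.1 (by simp))
  p6 := by rw [← E_pw, ← E_nil B]; exact B.E_eq (valid_pw (vlg _) 5) rfl (all_get Wd.frame_pow.1 (by simp))
  ne6 := by rw [← E_nil B]; exact B.E_ne (vlg _) rfl Wd.frame_pow.2.2.2.2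
  c12 := by rw [← (B.E_cm v1 (vlg _)).1]; exact B.E_eq (B.E_cm v1 (vlg _)).2 (vlg _) Wd.frame_comm.1
  c13 := by rw [← (B.E_cm v1 (vlg _)).1]; exact B.E_eq (B.E_cm v1 (vlg _)).2 (vlg _) Wd.frame_comm.2.1
  c14 := by rw [← (B.E_cm v1 (vlg _)).1]; exact B.E_eq (B.E_cm v1 (vlg _)).2 (vlg _) Wd.frame_comm.2.2.1
  c15 := B.commute_E v1 (vlg _) (all_get Wd.frame_commute (x := (Wd.u1, Wd.u5)) (by simp))
  c16 := B.commute_E v1 (vlg _) (all_get Wd.frame_commute (x := (Wd.u1, Wd.u6)) (by simp))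
  c23 := by
    rw [← (B.E_cm (vlg _) (vlg _)).1,
      B.E_eq (B.E_cm (vlg _) (vlg _)).2 (vn6 _) Wd.frame_comm.2.2.2.2.1]
    exact B.nf6_mem _
  c24 := by
    rw [← (B.E_cm (vlg _) (vlg _)).1,
      B.E_eq (B.E_cm (vlg _) (vlg _)).2 (vn6 _) Wd.frame_comm.2.2.2.2.2.1]
    exact B.nf6_mem _
  c25 := by
    rw [← (B.E_cm (vlg _) (vlg _)).1]
    exact B.E_eq (B.E_cm (vlg _) (vlg _)).2 (vlg _) Wd.frame_comm.2.2.2.1
  c26 := B.commute_E (vlg _) (vlg _) (all_get Wd.frame_commute (x := (Wd.u2, Wd.u6)) (by simp))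
  c34 := by
    rw [← (B.E_cm (vlg _) (vlg _)).1,
      B.E_eq (B.E_cm (vlg _) (vlg _)).2 (vn6 _) Wd.frame_comm.2.2.2.2.2.2]
    exact B.nf6_mem _
  c35 := B.commute_E (vlg _) (vlg _) (all_get Wd.frame_commute (x := (Wd.u3, Wd.u5)) (by simp))
  c36 := B.commute_E (vlg _) (vlg _) (all_get Wd.frame_commute (x := (Wd.u3, Wd.u6)) (by simp))
  c45 := B.commute_E (vlg _) (vlg _) (all_get Wd.frame_commute (x := (Wd.u4, Wd.u5)) (by simp))
  c46 := B.commute_E (vlg _) (vlg _) (all_get Wd.frame_commute (x := (Wd.u4, Wd.u6)) (by simp))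
  c56 := B.commute_E (vlg _) (vlg _) (all_get Wd.frame_commute (x := (Wd.u5, Wd.u6)) (by simp))
  ta4 := by rw [← E_pw, ← E_nil B]; exact B.E_eq (valid_pw (vlg _) 4) rfl Wd.frame_pow.2.1
  tb4 := by rw [← E_pw, ← E_nil B]; exact B.E_eq (valid_pw (vlg _) 4) rfl Wd.frame_pow.2.2.1
  tcomm := B.commute_E (vlg _) (vlg _) Wd.frame_pow.2.2.2.1
  a1 := B.commute_E (vlg _) v1 (all_get Wd.frame_commute (x := (Wd.ta, Wd.u1)) (by simp))
  a2 := by
    rw [← (B.E_cj (vlg _) (vlg _)).1, ← E_pw]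
    exact B.E_eq (B.E_cj (vlg _) (vlg _)).2 (valid_pw (vlg _) _) Wd.frame_ta.1
  a3 := by rw [B.E_cj_pw (vlg _) (vlg _) (vn4 _) Wd.frame_ta.2.2.1]; exact B.nf4_mem _
  a4 := by rw [B.E_cj_pw (vlg _) (vlg _) (vn5 _) Wd.frame_ta.2.2.2.1]; exact B.nf5_mem _
  a5 := by rw [B.E_cj_pw (vlg _) (vlg _) (vn6 _) Wd.frame_ta.2.2.2.2]; exact B.nf6_mem _
  a6 := by
    rw [← (B.E_cj (vlg _) (vlg _)).1, ← E_pw]
    exact B.E_eq (B.E_cj (vlg _) (vlg _)).2 (valid_pw (vlg _) _) Wd.frame_ta.2.1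
  b1 := by
    rw [← (B.E_cj v1 (vlg _)).1, ← E_pw]
    exact B.E_eq (B.E_cj v1 (vlg _)).2 (valid_pw v1 _) Wd.frame_tb.1
  b2 := B.commute_E (vlg _) (vlg _) (all_get Wd.frame_commute (x := (Wd.tb, Wd.u2)) (by simp))
  b3 := by rw [B.E_cj_pw (vlg _) (vlg _) (vn4 _) Wd.frame_tb.2.2.1]; exact B.nf4_mem _
  b4 := by rw [B.E_cj_pw (vlg _) (vlg _) (vn5 _) Wd.frame_tb.2.2.2.1]; exact B.nf5_mem _
  b5 := by rw [B.E_cj_pw (vlg _) (vlg _) (vn6 _) Wd.frame_tb.2.2.2.2]; exact B.nf6_mem _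
  b6 := by
    rw [← (B.E_cj (vlg _) (vlg _)).1, ← E_pw]
    exact B.E_eq (B.E_cj (vlg _) (vlg _)).2 (valid_pw (vlg _) _) Wd.frame_tb.2.1

theorem nfQ_mem (e : List ℕ) : B.E (Wd.nfQ e) ∈ B.frame.Q := by
  rw [Wd.nfQ, E_append, E_pw]
  refine mul_mem (Subgroup.mem_sup_left (Subgroup.npow_mem_zpowers _ _)) (Subgroup.mem_sup_right ?_)
  rw [Wd.nf3, E_append, E_pw]
  exact mul_mem (Subgroup.mem_sup_left (Subgroup.npow_mem_zpowers _ _)) (Subgroup.mem_sup_right (B.nf4_mem _))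

theorem nfR_mem (e : List ℕ) : B.E (Wd.nfR e) ∈ B.frame.R := by
  rw [Wd.nfR, E_append, E_pw]
  refine mul_mem (Subgroup.mem_sup_left (Subgroup.npow_mem_zpowers _ _)) (Subgroup.mem_sup_right ?_)
  rw [Wd.nf3, E_append, E_pw]
  exact mul_mem (Subgroup.mem_sup_left (Subgroup.npow_mem_zpowers _ _)) (Subgroup.mem_sup_right (B.nf4_mem _))

theorem nfT_mem (e : List ℕ) : B.E (Wd.nfT e) ∈ B.frame.T := by
  rw [Wd.nfT, E_append, E_pw, E_pw]
  exact mul_mem (Subgroup.mem_sup_left (Subgroup.npow_mem_zpowers _ _))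
    (Subgroup.mem_sup_right (Subgroup.npow_mem_zpowers _ _))

theorem nfB_mem (e : List ℕ) : B.E (Wd.nfB e) ∈ B.frame.B := by
  rw [Wd.nfB, E_append]
  refine mul_mem (Subgroup.mem_sup_left (B.nfT_mem _)) (Subgroup.mem_sup_right ?_)
  rw [Wd.nfU, E_append, E_pw]
  exact mul_mem (Subgroup.mem_sup_left (Subgroup.npow_mem_zpowers _ _))
    (Subgroup.mem_sup_right (B.nfQ_mem _))

/-- The point stabiliser. -/
noncomputable def L : Subgroup G := (LyDC.rep.fixList [0]).map B.φ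

theorem E_mem_L {w : List ℕ} (hw : Wd.valid w = true) (h : Wd.fix0 w = true) : B.E w ∈ B.L := by
  refine ⟨_, ?_, rfl⟩
  intro p hp
  rw [List.mem_singleton.1 hp, ← img_eq hw (by norm_num)]
  exact Nat.eq_of_beq_eq_true h

theorem E_notMem_L {w : List ℕ} (hw : Wd.valid w = true) (h : Wd.fix0 w = false) : B.E w ∉ B.L := by
  rintro ⟨x, hx, he⟩
  have := hx 0 (by simp)
  rw [B.φinj he, ← img_eq hw (by norm_num)] at this
  rw [Wd.fix0, this, Nat.beq_refl] at h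
  exact Bool.noConfusion h

theorem L_le {S : Subgroup G} (h : ∀ i < 8, B.E (Wd.lgW.getD i []) ∈ S) : B.L ≤ S := by
  rintro _ ⟨x, hx, rfl⟩
  have hx' := B.stab x (hx 0 (by simp))
  have : Subgroup.closure {y : LyDC.Hbar | ∃ i < 8, y = ((Wd.lgW.getD i []).map LyDC.rep.f).prod} ≤
      S.comap B.φ := by
    rw [Subgroup.closure_le]
    rintro _ ⟨i, hi, rfl⟩
    exact h i hi
  exact this hx'

theorem getD_mem {T : List (List ℕ)} {i : ℕ} (h : i < T.length) : T.getD i [] ∈ T := by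
  rw [List.getD_eq_getElem?_getD, List.getElem?_eq_getElem h]
  exact List.getElem_mem h

theorem lg_mem_L {i : ℕ} (hi : i < 16) : B.E (Wd.lgW.getD i []) ∈ B.L :=
  B.E_mem_L (vg i) (all_get Wd.gens_fix (getD_mem (T := Wd.lgW) hi))

theorem cat_mem_L : ∀ {s : List ℕ}, (∀ i ∈ s, i < 16) → B.E (Wd.cat Wd.lgW s) ∈ B.L
  | [], _ => by simp [Wd.cat, E]
  | i :: s, h => by
    have e : Wd.cat Wd.lgW (i :: s) = Wd.lgW.getD i [] ++ Wd.cat Wd.lgW s := by simp [Wd.cat]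
    rw [e, E_append]
    exact mul_mem (B.lg_mem_L (h i (by simp))) (cat_mem_L fun j hj => h j (by simp [hj]))

theorem conj_cat : ∀ {s : List ℕ}, (∀ i ∈ s, i < 8) →
    B.z⁻¹ * B.E (Wd.cat Wd.lgW s) * B.z = B.E (Wd.cat Wd.imW s)
  | [], _ => by simp [Wd.cat, E]
  | i :: s, h => by
    have e1 : Wd.cat Wd.lgW (i :: s) = Wd.lgW.getD i [] ++ Wd.cat Wd.lgW s := by simp [Wd.cat]
    have e2 : Wd.cat Wd.imW (i :: s) = Wd.imW.getD i [] ++ Wd.cat Wd.imW s := by simp [Wd.cat]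
    rw [e1, e2, E_append, E_append, ← conj_cat (s := s) (fun j hj => h j (by simp [hj])),
      ← show B.z⁻¹ * B.E (Wd.lgW.getD i []) * B.z = B.E (Wd.imW.getD i []) from B.conj_z i (h i (by simp))]
    group

variable [Finite G]

/-- The parabolic facts. -/
theorem L_le_normQ : B.L ≤ Subgroup.normalizer (B.frame.Q : Set G) := by
  refine B.L_le fun i hi => mem_normalizer_of_forall fun x hx => ?_
  have key : ∀ j < 5, B.E (Wd.lgW.getD i []) * B.E (Wd.qs.getD j []) * (B.E (Wd.lgW.getD i []))⁻¹ ∈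
      B.frame.Q := by
    intro j hj
    have hq : Wd.valid (Wd.qs.getD j []) = true :=
      valid_getD (T := Wd.qs) (by simp [Wd.qs, Wd.u2, Wd.u3, Wd.u4, Wd.u5, Wd.u6, vlg]) j
    have h := all_get (all_get Wd.lgW_normalise_Q (List.mem_range.2 hi)) (List.mem_range.2 hj)
    have e := B.E_eq (valid_append.2 ⟨vg i, valid_append.2 ⟨hq, valid_inv8 (vg i)⟩⟩) (vnQ _) h
    rw [E_append, E_append, E_inv8 B (vg i), ← mul_assoc] at e
    rw [e]
    exact B.nfQ_mem _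
  have hle : B.frame.Q.map (MulAut.conj (B.E (Wd.lgW.getD i []))).toMonoidHom ≤ B.frame.Q := by
    simp only [UFrame.Q, UFrame.W3, UFrame.W4, UFrame.W5, UFrame.W6, Subgroup.map_sup,
      MonoidHom.map_zpowers, sup_le_iff, Subgroup.zpowers_le]
    exact ⟨key 0 (by norm_num), key 1 (by norm_num), key 2 (by norm_num), key 3 (by norm_num),
      key 4 (by norm_num)⟩
  exact hle ⟨x, hx, rfl⟩

theorem z_mem_normQ : B.z ∈ Subgroup.normalizer (B.frame.Q : Set G) := by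
  rw [← inv_mem_iff]
  refine mem_normalizer_of_forall fun x hx => ?_
  rw [inv_inv]
  have key : ∀ j < 5, B.z⁻¹ * B.E (Wd.cat Wd.lgW ([Wd.s2, Wd.s3, Wd.s4, Wd.s5, Wd.s6].getD j [])) * B.z ∈
      B.frame.Q := by
    intro j hj
    have hlt : ∀ i ∈ [Wd.s2, Wd.s3, Wd.s4, Wd.s5, Wd.s6].getD j [], i < 8 := by
      interval_cases j <;> decide
    rw [B.conj_cat hlt, B.E_eq (vim _) (vnQ _) (all_get Wd.z_normalises_Q (List.mem_range.2 hj))]
    exact B.nfQ_mem _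
  have hle : B.frame.Q.map (MulAut.conj B.z⁻¹).toMonoidHom ≤ B.frame.Q := by
    simp only [UFrame.Q, UFrame.W3, UFrame.W4, UFrame.W5, UFrame.W6, Subgroup.map_sup,
      MonoidHom.map_zpowers, sup_le_iff, Subgroup.zpowers_le]
    simp only [MulEquiv.coe_toMonoidHom, MulAut.conj_apply, inv_inv]
    exact ⟨key 0 (by norm_num), key 1 (by norm_num), key 2 (by norm_num), key 3 (by norm_num),
      key 4 (by norm_num)⟩
  simpa using hle ⟨x, hx, rfl⟩

theorem z_mem_normL : B.z ∈ Subgroup.normalizer (B.L : Set G) := by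
  rw [← inv_mem_iff]
  refine mem_normalizer_of_forall fun x hx => ?_
  rw [inv_inv]
  have : B.L ≤ B.L.comap (MulAut.conj B.z⁻¹).toMonoidHom := by
    refine B.L_le fun i hi => ?_
    show B.z⁻¹ * B.E (Wd.lgW.getD i []) * B.z⁻¹⁻¹ ∈ B.L
    rw [inv_inv, show B.z⁻¹ * B.E (Wd.lgW.getD i []) * B.z = B.E (Wd.imW.getD i []) from B.conj_z i hi]
    exact B.E_mem_L (valid_getD Wd.valid_imW i) (all_get Wd.z_normalises_L (getD_mem
      (T := Wd.imW) (lt_of_lt_of_le hi (by decide))))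
  simpa using this hx

theorem normT_of {g : List ℕ} (hg : Wd.valid g = true) {e e' : List ℕ}
    (h1 : Wd.chk (g ++ (Wd.ta ++ Wd.inv8 g)) (Wd.nfT e) = true)
    (h2 : Wd.chk (g ++ (Wd.tb ++ Wd.inv8 g)) (Wd.nfT e') = true) :
    B.E g ∈ Subgroup.normalizer (B.frame.T : Set G) := by
  refine mem_normalizer_of_forall fun x hx => ?_
  have hle : B.frame.T.map (MulAut.conj (B.E g)).toMonoidHom ≤ B.frame.T := by
    simp only [UFrame.T, Subgroup.map_sup, MonoidHom.map_zpowers, sup_le_iff, Subgroup.zpowers_le]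
    have a := B.E_eq (valid_append.2 ⟨hg, valid_append.2 ⟨vlg _, valid_inv8 hg⟩⟩) (vnT _) h1
    have b := B.E_eq (valid_append.2 ⟨hg, valid_append.2 ⟨vlg _, valid_inv8 hg⟩⟩) (vnT _) h2
    rw [E_append, E_append, E_inv8 B hg, ← mul_assoc] at a b
    have a' := B.nfT_mem e
    have b' := B.nfT_mem e'
    rw [← a] at a'
    rw [← b] at b'
    exact ⟨a', b'⟩
  exact hle ⟨x, hx, rfl⟩

theorem f_mem_normR : B.E Wd.fW ∈ Subgroup.normalizer (B.frame.R : Set G) := by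
  refine mem_normalizer_of_forall fun x hx => ?_
  have key : ∀ j < 5, B.E Wd.fW * B.E ([Wd.u1, Wd.u3, Wd.u4, Wd.u5, Wd.u6].getD j []) * (B.E Wd.fW)⁻¹ ∈
      B.frame.R := by
    intro j hj
    have hq : Wd.valid ([Wd.u1, Wd.u3, Wd.u4, Wd.u5, Wd.u6].getD j []) = true :=
      valid_getD (by simp [v1, Wd.u3, Wd.u4, Wd.u5, Wd.u6, vlg]) j
    have e := B.E_eq (valid_append.2 ⟨vf, valid_append.2 ⟨hq, valid_inv8 vf⟩⟩) (vnR _)
      (all_get Wd.f_normalises_R (List.mem_range.2 hj))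
    rw [E_append, E_append, E_inv8 B vf, ← mul_assoc] at e
    rw [e]
    exact B.nfR_mem _
  have hle : B.frame.R.map (MulAut.conj (B.E Wd.fW)).toMonoidHom ≤ B.frame.R := by
    simp only [UFrame.R, UFrame.W3, UFrame.W4, UFrame.W5, UFrame.W6, Subgroup.map_sup,
      MonoidHom.map_zpowers, sup_le_iff, Subgroup.zpowers_le]
    exact ⟨key 0 (by norm_num), key 1 (by norm_num), key 2 (by norm_num), key 3 (by norm_num),
      key 4 (by norm_num)⟩
  exact hle ⟨x, hx, rfl⟩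

/-- The six representatives. -/
noncomputable def reps : List G := Wd.repsS.map fun s => B.E (Wd.cat Wd.lgW s)

theorem rep_mem {j : ℕ} (hj : j < 6) : B.E (Wd.cat Wd.lgW (Wd.repsS.getD j [])) ∈ B.reps :=
  List.mem_map.2 ⟨_, getD_mem (T := Wd.repsS) hj, rfl⟩

theorem rep_cases {r : G} (hr : r ∈ B.reps) : ∃ j < 6, r = B.E (Wd.cat Wd.lgW (Wd.repsS.getD j [])) := by
  obtain ⟨s, hs, rfl⟩ := List.mem_map.1 hr
  obtain ⟨j, hj, rfl⟩ := List.mem_iff_getElem.1 hs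
  exact ⟨j, hj, by rw [List.getD_eq_getElem?_getD, List.getElem?_eq_getElem hj]; rfl⟩

theorem cover {l : G} (hl : l ∈ B.L) : ∃ r ∈ B.reps, r⁻¹ * l ∈ B.frame.B := by
  let S : Submonoid G :=
    { carrier := {l | ∀ r ∈ B.reps, ∃ r' ∈ B.reps, r'⁻¹ * l * r ∈ B.frame.B}
      one_mem' := fun r hr => ⟨r, hr, by simp⟩
      mul_mem' := by
        intro x y hx hy r hr
        obtain ⟨r1, hr1, h1⟩ := hy r hr
        obtain ⟨r2, hr2, h2⟩ := hx r1 hr1
        refine ⟨r2, hr2, ?_⟩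
        have := mul_mem h2 h1
        rwa [show r2⁻¹ * x * r1 * (r1⁻¹ * y * r) = r2⁻¹ * (x * y) * r by group] at this }
  let S' : Subgroup G :=
    { S with
      inv_mem' := by
        intro x hx
        obtain ⟨n, hn⟩ := (isOfFinOrder_of_finite x).mem_powers_iff_mem_zpowers.2
          (inv_mem (Subgroup.mem_zpowers x))
        exact (show x ^ n = x⁻¹ from hn) ▸ pow_mem (show x ∈ S from hx) n }
  have hS : B.L ≤ S' := by
    refine B.L_le fun i hi r hr => ?_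
    obtain ⟨j, hj, rfl⟩ := B.rep_cases hr
    have h := all_get (all_get Wd.coset_table (List.mem_range.2 hi)) (List.mem_range.2 hj)
    simp only [Bool.and_eq_true] at h
    refine ⟨_, B.rep_mem (Nat.le_of_ble_eq_true h.1), ?_⟩
    have e := B.E_eq (valid_append.2 ⟨valid_inv8 (vlg _), valid_append.2 ⟨vg i, vlg _⟩⟩) (vnB _) h.2
    rw [E_append, E_append, E_inv8 B (vlg _), ← mul_assoc] at e
    rw [e]
    exact B.nfB_mem _
  obtain ⟨r', hr', h⟩ := hS hl (B.E (Wd.cat Wd.lgW (Wd.repsS.getD 0 []))) (B.rep_mem (by norm_num))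
  refine ⟨r', hr', ?_⟩
  have e : B.E (Wd.cat Wd.lgW (Wd.repsS.getD 0 [])) = 1 := by simp [E, Wd.repsS, Wd.cat]
  rwa [e, mul_one] at h

theorem scan {f : ℕ → Bool} (h0 : LyDC.rangeB f 9765 0 = true) (h1 : LyDC.rangeB f 9765 9765 = true)
    {p : ℕ} (hp : p < 19530) : f p = true := by
  rcases Nat.lt_or_ge p 9765 with h | h
  · exact LyDC.rangeB_spec h0 p (Nat.zero_le p) (by simpa using h)
  · exact LyDC.rangeB_spec h1 p h hp

/-- An element moved into `L` by `x` fixes the point `0 x⁻¹`. -/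
theorem fix_of_conj {x : LyDC.Hbar} {w : List ℕ} (hw : Wd.valid w = true)
    (h : (B.φ x)⁻¹ * B.E w * B.φ x ∈ B.L) :
    Wd.img w (LyDC.rep.pt x⁻¹ 0) = LyDC.rep.pt x⁻¹ 0 := by
  obtain ⟨y, hy, hye⟩ := h
  rw [E, ← map_inv, ← map_mul, ← map_mul] at hye
  have h0 := hy 0 (by simp)
  rw [B.φinj hye, LyDC.rep.pt_mul, LyDC.rep.pt_mul] at h0
  rw [img_eq hw (LyDC.rep.pt_lt _ _ (by norm_num))]
  exact (LyDC.rep.pt_inv h0).symm

theorem fix3 {h : G} (hh : h ∈ B.φ.range) (hW : ∀ x ∈ B.frame.W3, h⁻¹ * x * h ∈ B.L) :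
    ∃ k < 5, (B.E Wd.u1 ^ k)⁻¹ * h ∈ B.L := by
  obtain ⟨x, rfl⟩ := hh
  have h3 := B.fix_of_conj (vlg Wd.s3) (hW _ B.frame.m33)
  set p := LyDC.rep.pt x⁻¹ 0 with hp
  have hplt : p < 19530 := LyDC.rep.pt_lt _ _ (by norm_num)
  have hs := scan Wd.scan3_0 Wd.scan3_1 hplt
  simp only [Wd.scan3, Wd.u3, h3, Nat.beq_refl, Bool.not_true, Bool.false_or] at hs
  have hp5 : p < 5 := Nat.le_of_ble_eq_true hs
  obtain ⟨k, hk, hkp⟩ := List.any_eq_true.1 (all_get Wd.five_points (List.mem_range.2 hp5))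
  refine ⟨k, List.mem_range.1 hk, ?_⟩
  have hv : Wd.valid (Wd.inv8 (Wd.pw Wd.u1 k)) = true := valid_inv8 (valid_pw v1 k)
  have e : (B.E Wd.u1 ^ k)⁻¹ = B.E (Wd.inv8 (Wd.pw Wd.u1 k)) := by
    rw [E_inv8 B (valid_pw v1 k), E_pw]
  rw [e]
  refine ⟨((Wd.inv8 (Wd.pw Wd.u1 k)).map LyDC.rep.f).prod * x, fun q hq => ?_, by rw [map_mul]; rfl⟩
  rw [List.mem_singleton.1 hq, LyDC.rep.pt_mul, ← img_eq hv (by norm_num),
    Nat.eq_of_beq_eq_true hkp, hp, ← LyDC.rep.pt_mul, inv_mul_cancel, LyDC.rep.pt_one]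

theorem u_mem_range (w : List ℕ) : B.E w ∈ B.φ.range := ⟨_, rfl⟩

theorem L_le_range : B.L ≤ B.φ.range := Subgroup.map_le_range _ _

theorem edge_mem {h : G} (hh : h ∈ B.φ.range) (hz : B.z⁻¹ * h * B.z ∈ B.φ.range) : h ∈ B.L := by
  obtain ⟨x, rfl⟩ := hh
  exact ⟨x, fun p hp => by rw [List.mem_singleton.1 hp]; exact B.edge x hz, rfl⟩

theorem card_Q : Nat.card B.frame.Q = 5 ^ 5 := by
  have h := B.frame.card_U
  rw [UFrame.U, card_zpowers_sup (by norm_num) B.frame.p1 (B.frame.U_norm_Q B.frame.m11) B.frame.n1] at h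
  omega

theorem card_R : Nat.card B.frame.R = 5 ^ 5 := by
  have hQ := B.card_Q
  rw [UFrame.Q, card_zpowers_sup (by norm_num) B.frame.p2 (B.frame.U_norm_W3 B.frame.m21) B.frame.n2] at hQ
  rw [UFrame.R, card_zpowers_sup (by norm_num) B.frame.p1 (B.frame.U_norm_W3 B.frame.m11)
    fun h => B.frame.n1 (B.frame.W3_le_Q h)]
  omega

/-- A subgroup of order `5 ^ 5` fixing a coset: the coset is `H` or in the orbit of `z H`. -/
theorem fixed_coset {K : Subgroup G} (hK : K ≤ B.φ.range) (hcard : Nat.card K = 5 ^ 5) {g : G}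
    (hg : ∀ x ∈ K, g⁻¹ * x * g ∈ B.φ.range) :
    g ∈ B.φ.range ∨ ∃ x : LyDC.Hbar, (B.φ x * B.z)⁻¹ * g ∈ B.φ.range ∧
      ∀ k ∈ K, (B.φ x)⁻¹ * k * B.φ x ∈ B.L := by
  rcases B.orbits g with h | ⟨h, hh, h', hh', rfl⟩ | h
  · exact Or.inl h
  · obtain ⟨x, rfl⟩ := hh
    refine Or.inr ⟨x, by simpa [mul_assoc] using hh', fun k hk => ?_⟩
    refine B.edge_mem (mul_mem (mul_mem (inv_mem ⟨x, rfl⟩) (hK hk)) ⟨x, rfl⟩) ?_
    have := mul_mem (mul_mem hh' (hg k hk)) (inv_mem hh')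
    rwa [show h' * ((B.φ x * B.z * h')⁻¹ * k * (B.φ x * B.z * h')) * h'⁻¹ =
      B.z⁻¹ * ((B.φ x)⁻¹ * k * B.φ x) * B.z by group] at this
  · refine absurd ?_ h
    rw [← hcard]
    refine Subgroup.card_dvd_of_le fun k hk => ⟨hK hk, ⟨g⁻¹ * k * g, hg k hk, ?_⟩⟩
    simp [MulAut.conj_apply, mul_assoc]

theorem fixR {g : G} (hg : ∀ x ∈ B.frame.R, g⁻¹ * x * g ∈ B.φ.range) : g ∈ B.φ.range := by
  have hRH : B.frame.R ≤ B.φ.range := by
    simp only [UFrame.R, UFrame.W3, UFrame.W4, UFrame.W5, UFrame.W6, sup_le_iff, Subgroup.zpowers_le]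
    exact ⟨B.u_mem_range _, B.u_mem_range _, B.u_mem_range _, B.u_mem_range _, B.u_mem_range _⟩
  refine (B.fixed_coset hRH B.card_R hg).resolve_right ?_
  rintro ⟨x, -, hx⟩
  have hs := scan Wd.scanR_0 Wd.scanR_1 (p := LyDC.rep.pt x⁻¹ 0) (LyDC.rep.pt_lt _ _ (by norm_num))
  rw [Wd.scanR, B.fix_of_conj v1 (hx _ B.frame.m1R),
    B.fix_of_conj (w := Wd.r2W) (vnR _) (hx _ (B.nfR_mem _)),
    B.fix_of_conj (w := Wd.r3W) (vnR _) (hx _ (B.nfR_mem _))] at hs
  simp [Nat.beq_refl] at hs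

theorem fixQ {g : G} (hQL : B.frame.Q ≤ B.L) (hg : ∀ x ∈ B.frame.Q, g⁻¹ * x * g ∈ B.φ.range) :
    g ∈ B.φ.range ∨ ∃ k < 5, (B.E Wd.u1 ^ k * B.z)⁻¹ * g ∈ B.φ.range := by
  refine (B.fixed_coset (hQL.trans B.L_le_range) B.card_Q hg).imp_right ?_
  rintro ⟨x, hxg, hx⟩
  obtain ⟨k, hk, hl⟩ := B.fix3 ⟨x, rfl⟩ fun y hy => hx y (B.frame.W3_le_Q hy)
  refine ⟨k, hk, ?_⟩
  have := mul_mem (B.L_le_range (conj_mem_of_norm' B.z_mem_normL hl)) hxg
  rwa [show B.z⁻¹ * ((B.E Wd.u1 ^ k)⁻¹ * B.φ x) * B.z * ((B.φ x * B.z)⁻¹ * g) =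
    (B.E Wd.u1 ^ k * B.z)⁻¹ * g by group] at this

theorem com_of_gens {x : G} (h : ∀ p ∈ [B.frame.u5, B.frame.u6], ∀ q ∈ [B.frame.u5, B.frame.u6],
    Commute (x⁻¹ * p * x) q) : ∀ p ∈ B.frame.W5, ∀ q ∈ B.frame.W5, Commute (x⁻¹ * p * x) q := by
  have h1 : ∀ p ∈ [B.frame.u5, B.frame.u6], ∀ q ∈ B.frame.W5, Commute (x⁻¹ * p * x) q :=
    fun p hp q hq => commute_of_mem_sup hq (fun a ha => commute_zpowers (h p hp _ (by simp)) ha)
      (fun a ha => commute_zpowers (h p hp _ (by simp)) ha)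
  intro p hp q hq
  have hq' : ∀ p ∈ B.frame.W5, Commute (x * q * x⁻¹) p := fun p hp =>
    commute_of_mem_sup hp
      (fun a ha => commute_zpowers (by simpa [MulAut.conj_apply, mul_assoc] using
        ((h1 B.frame.u5 (by simp) q hq).map (MulAut.conj x).toMonoidHom).symm) ha)
      (fun a ha => commute_zpowers (by simpa [MulAut.conj_apply, mul_assoc] using
        ((h1 B.frame.u6 (by simp) q hq).map (MulAut.conj x).toMonoidHom).symm) ha)
  simpa [MulAut.conj_apply, mul_assoc] using ((hq' p hp).map (MulAut.conj x⁻¹).toMonoidHom).symm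

theorem z_rep_conj {s : List ℕ} (hs : ∀ i ∈ s, i < 8) {j : ℕ} :
    (B.z * B.E (Wd.cat Wd.lgW (Wd.repsS.getD j [])))⁻¹ * B.E (Wd.cat Wd.lgW s) *
      (B.z * B.E (Wd.cat Wd.lgW (Wd.repsS.getD j []))) =
    B.E (Wd.cj (Wd.cat Wd.imW s) (Wd.cat Wd.lgW (Wd.repsS.getD j []))) := by
  rw [(B.E_cj (vim _) (vlg _)).1, ← B.conj_cat hs]
  group

/-- The configuration. -/
noncomputable def data : Data G where
  toUFrame := B.frame
  H := B.φ.range
  L := B.L
  z := B.z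
  w := B.E Wd.wW
  f := B.E Wd.fW
  reps := B.reps
  hG := B.card_dvd
  hQL := by
    simp only [UFrame.Q, UFrame.W3, UFrame.W4, UFrame.W5, UFrame.W6, sup_le_iff, Subgroup.zpowers_le]
    exact ⟨B.cat_mem_L (by decide), B.cat_mem_L (by decide), B.cat_mem_L (by decide),
      B.cat_mem_L (by decide), B.cat_mem_L (by decide)⟩
  hTL := by
    simp only [UFrame.T, sup_le_iff, Subgroup.zpowers_le]
    exact ⟨B.cat_mem_L (by decide), B.cat_mem_L (by decide)⟩
  hwL := B.cat_mem_L (by decide)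
  hLH := B.L_le_range
  hu1H := B.u_mem_range _
  hLQ := B.L_le_normQ
  hzL := B.z_mem_normL
  hzQ := B.z_mem_normQ
  hzz := B.z_sq
  hz := B.z_notMem
  hHgen := by
    refine le_antisymm ?_ ?_
    · set C := Subgroup.closure {B.frame.u1, B.frame.ta, B.frame.tb, B.E Wd.wW, B.E Wd.fW} with hC
      have m1 : B.E Wd.u1 ∈ C := Subgroup.subset_closure (Set.mem_insert _ _)
      have m2 : B.E Wd.tb ∈ C := Subgroup.subset_closure
        (Set.mem_insert_of_mem _ (Set.mem_insert_of_mem _ (Set.mem_insert _ _)))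
      have m3 : B.E Wd.wW ∈ C := Subgroup.subset_closure
        (Set.mem_insert_of_mem _ (Set.mem_insert_of_mem _ (Set.mem_insert_of_mem _ (Set.mem_insert _ _))))
      have m4 : B.E Wd.fW ∈ C := Subgroup.subset_closure (Set.mem_insert_of_mem _ (Set.mem_insert_of_mem _
        (Set.mem_insert_of_mem _ (Set.mem_insert_of_mem _ rfl))))
      have hl : ∀ l ∈ [0, 2, 4, 6], B.φ (LyDC.rep.f l) ∈ C := by
        intro l hl
        have e : B.φ (LyDC.rep.f l) = B.E [l] := by simp [E]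
        rw [e]
        fin_cases hl
        · rw [B.E_eq (by decide) (by decide +kernel) Wd.gen_words.1, E_append, E_append, E_inv8 B v1]
          exact mul_mem (inv_mem m1) (mul_mem m3 m1)
        · exact m1
        · rw [B.E_eq (by decide) (by decide +kernel) Wd.gen_words.2.1, E_append, E_append, E_append]
          exact mul_mem m4 (mul_mem m1 (mul_mem m1 m4))
        · rw [B.E_eq (by decide) (by decide +kernel) Wd.gen_words.2.2, E_append, E_append, E_append,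
            E_append, E_append, E_inv8 B (vlg Wd.sw)]
          exact mul_mem m4 (mul_mem (inv_mem m3) (mul_mem m4 (mul_mem (inv_mem m3) (mul_mem m2 m4))))
      rintro _ ⟨⟨x, hx⟩, rfl⟩
      have hH : LyDC.Hbar ≤ (C.comap B.φ).map LyDC.Hbar.subtype := by
        conv_lhs => rw [LyDC.Hbar]
        rw [Subgroup.closure_le]
        rintro y (rfl | rfl | rfl | rfl)
        · exact ⟨LyDC.rep.f 0, hl 0 (by simp), rfl⟩
        · exact ⟨LyDC.rep.f 2, hl 2 (by simp), rfl⟩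
        · exact ⟨LyDC.rep.f 4, hl 4 (by simp), rfl⟩
        · exact ⟨LyDC.rep.f 6, hl 6 (by simp), rfl⟩
      obtain ⟨y, hy, hyx⟩ := hH hx
      have : y = ⟨x, hx⟩ := Subtype.ext hyx
      rw [← this]
      exact hy
    · rw [Subgroup.closure_le]
      rintro x (rfl | rfl | rfl | rfl | rfl) <;> exact B.u_mem_range _
  hGgen := B.gen
  hwT := B.normT_of (vlg _) Wd.w_normalises_T.1 Wd.w_normalises_T.2
  hfH := B.u_mem_range _
  hfT := B.normT_of vf Wd.f_normalises_T.1 Wd.f_normalises_T.2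
  hfR := B.f_mem_normR
  hfixR := fun _ hg => B.fixR hg
  hfixQ := fun _ hg => B.fixQ (by
    simp only [UFrame.Q, UFrame.W3, UFrame.W4, UFrame.W5, UFrame.W6, sup_le_iff, Subgroup.zpowers_le]
    exact ⟨B.cat_mem_L (by decide), B.cat_mem_L (by decide), B.cat_mem_L (by decide),
      B.cat_mem_L (by decide), B.cat_mem_L (by decide)⟩) hg
  hfix3 := fun _ hh hW => B.fix3 hh hW
  hstab := fun _ hh hz => B.edge_mem hh hz
  hLu := fun k hk hk5 => by
    refine ⟨B.E (Wd.lgW.getD (Wd.luE.getD (k - 1) 0) []),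
      B.lg_mem_L (by interval_cases k <;> decide), ?_⟩
    have h := all_get Wd.u_moves (List.mem_range.2 (show k - 1 < 4 by omega))
    rw [Nat.sub_add_cancel hk, Bool.not_eq_true'] at h
    have hv := (B.E_cj (vg (Wd.luE.getD (k - 1) 0)) (valid_pw v1 k)).2
    have := B.E_notMem_L hv h
    rwa [(B.E_cj (vg _) (valid_pw v1 k)).1, E_pw] at this
  hcov := fun _ hl => B.cover hl
  hrepsL := fun r hr => by
    obtain ⟨j, hj, rfl⟩ := B.rep_cases hr
    exact B.cat_mem_L (by interval_cases j <;> decide)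
  hrepsBruhat := fun r hr => by
    obtain ⟨j, hj, rfl⟩ := B.rep_cases hr
    rcases Nat.eq_zero_or_pos j with rfl | hj0
    · left
      simp [Wd.repsS, Wd.cat, E]
    · right
      have step : ∀ (k : ℕ) (e : List ℕ),
          Wd.chk (Wd.cat Wd.lgW (Wd.repsS.getD j [])) (Wd.pw Wd.u1 k ++ (Wd.wW ++ Wd.nfB e)) = true →
          ∃ u ∈ B.frame.U, ∃ v ∈ B.frame.B,
            B.E (Wd.cat Wd.lgW (Wd.repsS.getD j [])) = u * B.E Wd.wW * v := by
        intro k e h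
        refine ⟨_, pow_mem B.frame.m11 k, _, B.nfB_mem e, ?_⟩
        rw [B.E_eq (vlg _) (valid_append.2 ⟨valid_pw v1 k, valid_append.2 ⟨vlg _, vnB _⟩⟩) h,
          E_append, E_append, E_pw, ← mul_assoc]
        rfl
      interval_cases j
      · exact step 4 _ (all_get Wd.reps_bruhat (x := (1, 4, [0, 0, 1, 0, 0, 0, 0, 0])) (by simp))
      · exact step 0 _ (all_get Wd.reps_bruhat (x := (2, 0, [0, 0, 0, 0, 0, 0, 0, 0])) (by simp))
      · exact step 1 _ (all_get Wd.reps_bruhat (x := (3, 1, [0, 0, 4, 0, 0, 0, 0, 0])) (by simp))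
      · exact step 3 _ (all_get Wd.reps_bruhat (x := (4, 3, [2, 3, 4, 0, 0, 0, 0, 0])) (by simp))
      · exact step 2 _ (all_get Wd.reps_bruhat (x := (5, 2, [0, 3, 1, 0, 0, 0, 0, 0])) (by simp))
  hwCom := fun h => by
    have hc : Commute ((B.E Wd.wW)⁻¹ * B.E Wd.u5 * B.E Wd.wW) (B.E Wd.u5) :=
      h _ B.frame.m55 _ B.frame.m55
    have hv := (B.E_cj (vlg Wd.s5) (vlg Wd.sw)).2
    refine B.E_ne (valid_append.2 ⟨hv, vlg Wd.s5⟩) (valid_append.2 ⟨vlg Wd.s5, hv⟩) Wd.w_not_com ?_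
    rw [E_append, E_append]
    show B.E (Wd.cj Wd.u5 Wd.wW) * _ = _ * B.E (Wd.cj Wd.u5 Wd.wW)
    rw [(B.E_cj (vlg Wd.s5) (vlg Wd.sw)).1]
    exact hc.eq
  hsix := fun r hr => by
    obtain ⟨j, hj, rfl⟩ := B.rep_cases hr
    have good : j ∈ [0, 2] → ∀ q ∈ B.frame.W5, ∀ q' ∈ B.frame.W5,
        Commute ((B.z * B.E (Wd.cat Wd.lgW (Wd.repsS.getD j [])))⁻¹ * q *
          (B.z * B.E (Wd.cat Wd.lgW (Wd.repsS.getD j [])))) q' := by
      intro hj'
      refine B.com_of_gens fun p hp q hq => ?_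
      have hs : ∃ s ∈ [Wd.s5, Wd.s6], p = B.E (Wd.cat Wd.lgW s) := by
        rcases List.mem_cons.1 hp with rfl | hp
        · exact ⟨Wd.s5, by simp, rfl⟩
        · rw [List.mem_singleton.1 hp]; exact ⟨Wd.s6, by simp, rfl⟩
      have hv : ∃ v ∈ [Wd.u5, Wd.u6], q = B.E v ∧ Wd.valid v = true := by
        rcases List.mem_cons.1 hq with rfl | hq
        · exact ⟨Wd.u5, by simp, rfl, vlg _⟩
        · rw [List.mem_singleton.1 hq]; exact ⟨Wd.u6, by simp, rfl, vlg _⟩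
      obtain ⟨s, hs, rfl⟩ := hs
      obtain ⟨v, hv, rfl, hvv⟩ := hv
      have hs8 : ∀ i ∈ s, i < 8 := by
        rcases List.mem_cons.1 hs with rfl | hs
        · decide
        · rw [List.mem_singleton.1 hs]; decide
      rw [B.z_rep_conj hs8]
      exact B.commute_E (B.E_cj (vim _) (vlg _)).2 hvv
        (all_get (all_get (all_get Wd.six_good hj') hs) hv)
    have bad : j ∈ [1, 3, 4, 5] → ∃ t ∈ B.frame.T, ¬∀ q ∈ B.frame.W5, ∀ q' ∈ B.frame.W5,
        Commute (((B.z * B.E (Wd.cat Wd.lgW (Wd.repsS.getD j [])))⁻¹ * t *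
          (B.z * B.E (Wd.cat Wd.lgW (Wd.repsS.getD j []))))⁻¹ * q *
          ((B.z * B.E (Wd.cat Wd.lgW (Wd.repsS.getD j [])))⁻¹ * t *
          (B.z * B.E (Wd.cat Wd.lgW (Wd.repsS.getD j []))))) q' := by
      intro hj'
      refine ⟨_, B.frame.mtb, fun h => ?_⟩
      have hb := all_get Wd.six_bad hj'
      simp only [Bool.not_eq_true'] at hb
      set x := Wd.cj (Wd.cat Wd.imW Wd.sb) (Wd.cat Wd.lgW (Wd.repsS.getD j [])) with hx
      have ex : (B.z * B.E (Wd.cat Wd.lgW (Wd.repsS.getD j [])))⁻¹ * B.frame.tb *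
          (B.z * B.E (Wd.cat Wd.lgW (Wd.repsS.getD j []))) = B.E x := B.z_rep_conj (s := Wd.sb) (by decide)
      have hc := h _ B.frame.m55 _ B.frame.m55
      rw [ex] at hc
      have hxv : Wd.valid x = true := (B.E_cj (vim _) (vlg _)).2
      have hv := (B.E_cj (vlg Wd.s5) hxv).2
      refine B.E_ne (valid_append.2 ⟨hv, vlg Wd.s5⟩) (valid_append.2 ⟨vlg Wd.s5, hv⟩) hb ?_
      rw [E_append, E_append]
      show B.E (Wd.cj Wd.u5 x) * _ = _ * B.E (Wd.cj Wd.u5 x)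
      rw [(B.E_cj (vlg Wd.s5) hxv).1]
      exact hc.eq
    interval_cases j
    · exact Or.inl (good (by simp))
    · exact Or.inr (bad (by simp))
    · exact Or.inl (good (by simp))
    · exact Or.inr (bad (by simp))
    · exact Or.inr (bad (by simp))
    · exact Or.inr (bad (by simp))

end Base

end Cfsg.LyOut55
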