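import Cfsg.Prelude.Def_KGroupFacts
import Cfsg.Agent.Lib.LyOut55.Inst

set_option autoImplicit false

/-! The outer automorphism group is trivial. -/

universe u

namespace Cfsg.LyOut55

theorem Base.card_out {G : Type u} [Group G] [Finite G] (B : Base G) : Nat.card (Cfsg.Out G) = 1 := by
  refine Nat.card_eq_one_iff_unique.2 ⟨?_, inferInstance⟩
  refine ⟨fun x y => ?_⟩
  obtain ⟨α, rfl⟩ := QuotientGroup.mk_surjective x
  obtain ⟨β, rfl⟩ := QuotientGroup.mk_surjective y
  rw [QuotientGroup.eq]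
  obtain ⟨g, hg⟩ := Data.exists_conj B.data (α⁻¹ * β)
  exact ⟨g, hg⟩

end Cfsg.LyOut55
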