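import Cfsg.Agent.Lib.LyOut55.FromCtx
import Cfsg.Agent.Lib.LyOut55.OutOne
import Cfsg.Agent.Lib.LyBridge55.Bridge

set_option autoImplicit false

/-! `Out(Ly) = 1` given the order of the presented Lyons group. -/

namespace Cfsg.LyOut55

open Cfsg.Agent.Lib

theorem card_out_Ly (h : Nat.card Cfsg.Spor.Ly = 51765179004000000) :
    Nat.card (Cfsg.Out Cfsg.Spor.Ly) = 1 :=
  haveI : Finite Cfsg.Spor.Ly := LyBridge55.card_le.1
  (baseOfCtx LyBridge55.lyCtx (LyBridge55.lyHom_injective h.ge) LyBridge55.card_Hbar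
    LyBridge55.lyCtx_gen h).card_out

end Cfsg.LyOut55
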