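import Cfsg.Agent.Lib.LyOut55.Torus

set_option autoImplicit false

/-! Every automorphism of a group with the Lyons configuration is inner. -/

open scoped commutatorElement

namespace Cfsg.LyOut55

/-- The configuration `(G₂(5), z)` inside the Lyons group. -/
structure Data (G : Type*) [Group G] extends UFrame G where
  H : Subgroup G
  L : Subgroup G
  z : G
  w : G
  f : G
  reps : List G
  hG : ¬5 ^ 7 ∣ Nat.card G
  hQL : toUFrame.Q ≤ L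
  hTL : toUFrame.T ≤ L
  hwL : w ∈ L
  hLH : L ≤ H
  hu1H : u1 ∈ H
  hLQ : L ≤ Subgroup.normalizer (toUFrame.Q : Set G)
  hzL : z ∈ Subgroup.normalizer (L : Set G)
  hzQ : z ∈ Subgroup.normalizer (toUFrame.Q : Set G)
  hzz : z ^ 2 ∈ H
  hz : z ∉ H
  hHgen : H = Subgroup.closure {u1, ta, tb, w, f}
  hGgen : Subgroup.closure (insert z (H : Set G)) = ⊤
  hwT : w ∈ Subgroup.normalizer (toUFrame.T : Set G)
  hfH : f ∈ H
  hfT : f ∈ Subgroup.normalizer (toUFrame.T : Set G)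
  hfR : f ∈ Subgroup.normalizer (toUFrame.R : Set G)
  hfixR : ∀ g, (∀ x ∈ toUFrame.R, g⁻¹ * x * g ∈ H) → g ∈ H
  hfixQ : ∀ g, (∀ x ∈ toUFrame.Q, g⁻¹ * x * g ∈ H) → g ∈ H ∨ ∃ k < 5, (u1 ^ k * z)⁻¹ * g ∈ H
  hfix3 : ∀ h ∈ H, (∀ x ∈ toUFrame.W3, h⁻¹ * x * h ∈ L) → ∃ k < 5, (u1 ^ k)⁻¹ * h ∈ L
  hstab : ∀ h ∈ H, z⁻¹ * h * z ∈ H → h ∈ L
  hLu : ∀ k, 1 ≤ k → k < 5 → ∃ x ∈ L, (u1 ^ k)⁻¹ * x * u1 ^ k ∉ L
  hcov : ∀ l ∈ L, ∃ r ∈ reps, r⁻¹ * l ∈ toUFrame.B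
  hrepsL : ∀ r ∈ reps, r ∈ L
  hrepsBruhat : ∀ r ∈ reps, r ∈ toUFrame.B ∨ ∃ u ∈ toUFrame.U, ∃ v ∈ toUFrame.B, r = u * w * v
  hwCom : ¬∀ q ∈ toUFrame.W5, ∀ q' ∈ toUFrame.W5, Commute (w⁻¹ * q * w) q'
  hsix : ∀ r ∈ reps, (∀ q ∈ toUFrame.W5, ∀ q' ∈ toUFrame.W5, Commute ((z * r)⁻¹ * q * (z * r)) q') ∨
    ∃ t ∈ toUFrame.T, ¬∀ q ∈ toUFrame.W5, ∀ q' ∈ toUFrame.W5,
      Commute (((z * r)⁻¹ * t * (z * r))⁻¹ * q * ((z * r)⁻¹ * t * (z * r))) q'

namespace Data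

variable {G : Type*} [Group G] (D : Data G)

/-- `x` maps the top layer of `Q` to something commuting with it. -/
def Com (x : G) : Prop := ∀ q ∈ D.W5, ∀ q' ∈ D.W5, Commute (x⁻¹ * q * x) q'

/-- The parabolic subgroup `N_H(Q)`. -/
def P1 : Subgroup G := D.H ⊓ Subgroup.normalizer (D.Q : Set G)

theorem L_le_P1 : D.L ≤ D.P1 := le_inf D.hLH D.hLQ

variable [Finite G]

theorem U_le_H : D.U ≤ D.H := D.U_le_of D.hu1H (D.hLH (D.hQL D.m22))

theorem T_le_H : D.T ≤ D.H := D.hTL.trans D.hLH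

theorem B_le_P1 : D.B ≤ D.P1 :=
  sup_le (le_inf D.T_le_H D.T_norm_Q) (le_inf D.U_le_H D.U_norm_Q)

theorem com_of_normalizes {x : G} (hx : x ∈ Subgroup.normalizer (D.W5 : Set G)) : D.Com x :=
  fun _ hq _ hq' => D.W5_abelian (conj_mem_of_norm' hx hq) hq'

theorem com_B {x : G} (hx : x ∈ D.B) : D.Com x := D.com_of_normalizes (D.B_norm_W5 hx)

theorem not_com_UwB {u v : G} (hu : u ∈ D.U) (hv : v ∈ D.B) : ¬D.Com (u * D.w * v) := by
  intro h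
  refine D.hwCom fun q hq q' hq' => ?_
  have h1 := h (u * q * u⁻¹) (conj_mem_of_norm (D.U_norm_W5 hu) hq) (v⁻¹ * q' * v)
    (conj_mem_of_norm' (D.B_norm_W5 hv) hq')
  have h2 := h1.map (MulAut.conj v).toMonoidHom
  convert h2 using 1 <;>
    simp only [MulEquiv.coe_toMonoidHom, MulAut.conj_apply] <;> group

theorem exists_pow_mul_L {p : G} (hp : p ∈ D.P1) : ∃ k < 5, ∃ l ∈ D.L, p = D.u1 ^ k * l := by
  obtain ⟨k, hk, hl⟩ := D.hfix3 p hp.1 fun x hx =>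
    D.hQL (conj_mem_of_norm' hp.2 (D.W3_le_Q hx))
  exact ⟨k, hk, _, hl, by group⟩

theorem bruhat {p : G} (hp : p ∈ D.P1) :
    p ∈ D.B ∨ ∃ u ∈ D.U, ∃ v ∈ D.B, p = u * D.w * v := by
  obtain ⟨k, -, l, hl, rfl⟩ := D.exists_pow_mul_L hp
  obtain ⟨r, hr, hs⟩ := D.hcov l hl
  have hu : D.u1 ^ k ∈ D.U := pow_mem D.m11 k
  rcases D.hrepsBruhat r hr with h | ⟨u, hu', v, hv, he⟩
  · left
    have := mul_mem (mul_mem (D.U_le_B hu) h) hs
    rwa [mul_assoc, mul_inv_cancel_left] at this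
  · refine Or.inr ⟨D.u1 ^ k * u, mul_mem hu hu', v * (r⁻¹ * l), mul_mem hv hs, ?_⟩
    rw [he]; group

theorem mem_B_iff {p : G} (hp : p ∈ D.P1) : p ∈ D.B ↔ D.Com p := by
  refine ⟨D.com_B, fun h => (D.bruhat hp).resolve_right ?_⟩
  rintro ⟨u, hu, v, hv, rfl⟩
  exact D.not_com_UwB hu hv h

theorem normalizer_U_eq {g : G} (hg : g ∈ Subgroup.normalizer (D.U : Set G)) : g ∈ D.B := by
  have hU : D.U.map (MulAut.conj g).toMonoidHom = D.U := (Subgroup.mem_normalizer_iff_map_conj_eq.1 hg)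
  obtain ⟨hQ, hR, h5, -⟩ := D.char hU
  have hQ' : g ∈ Subgroup.normalizer (D.Q : Set G) := Subgroup.mem_normalizer_iff_map_conj_eq.2 hQ
  have hR' : g ∈ Subgroup.normalizer (D.R : Set G) := Subgroup.mem_normalizer_iff_map_conj_eq.2 hR
  have hH : g ∈ D.H := D.hfixR g fun x hx => D.U_le_H (D.R_le_U (conj_mem_of_norm' hR' hx))
  exact (D.mem_B_iff ⟨hH, hQ'⟩).2 (D.com_of_normalizes (Subgroup.mem_normalizer_iff_map_conj_eq.2 h5))

theorem norm_R_le {g : G} (hg : g ∈ Subgroup.normalizer (D.R : Set G)) : g ∈ D.H :=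
  D.hfixR g fun _ hx => D.U_le_H (D.R_le_U (conj_mem_of_norm' hg hx))

theorem norm_Q_cases {g : G} (hg : g ∈ Subgroup.normalizer (D.Q : Set G)) :
    g ∈ D.P1 ∨ ∃ k < 5, ∃ p ∈ D.P1, g = D.u1 ^ k * D.z * p := by
  rcases D.hfixQ g (fun x hx => D.hLH (D.hQL (conj_mem_of_norm' hg hx))) with h | ⟨k, hk, h⟩
  · exact Or.inl ⟨h, hg⟩
  · refine Or.inr ⟨k, hk, _, ⟨h, ?_⟩, by group⟩
    show _ ∈ Subgroup.normalizer (D.Q : Set G)
    exact mul_mem (inv_mem (mul_mem (D.U_norm_Q (pow_mem D.m11 k)) D.hzQ)) hg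

theorem P1_le_of {X : Subgroup G} (hB : D.B ≤ X) {p : G} (hp : p ∈ D.P1) (hpB : p ∉ D.B) (hpX : p ∈ X) :
    D.P1 ≤ X := by
  obtain ⟨u, hu, v, hv, rfl⟩ := (D.bruhat hp).resolve_left hpB
  have hw : D.w ∈ X := by
    have := mul_mem (mul_mem (inv_mem (hB (D.U_le_B hu))) hpX) (inv_mem (hB hv))
    rwa [show u⁻¹ * (u * D.w * v) * v⁻¹ = D.w by group] at this
  intro q hq
  rcases D.bruhat hq with h | ⟨u', hu', v', hv', rfl⟩
  · exact hB h
  · exact mul_mem (mul_mem (hB (D.U_le_B hu')) hw) (hB hv')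

variable {β : MulAut G}

theorem map_B (h : D.U.map β.toMonoidHom = D.U) : D.B.map β.toMonoidHom = D.B := by
  refine map_eq_of_le fun x hx => D.normalizer_U_eq (mem_normalizer_of_forall fun y hy => ?_)
  obtain ⟨y, hy', rfl⟩ : y ∈ D.U.map β.toMonoidHom := h.symm ▸ hy
  show β x * β y * (β x)⁻¹ ∈ D.U
  rw [← map_inv, ← map_mul, ← map_mul]
  exact (apply_mem_iff h).2 (conj_mem_of_norm (D.B_norm_U hx) hy')

theorem map_norm {N : Subgroup G} (h : N.map β.toMonoidHom = N) {x : G}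
    (hx : x ∈ Subgroup.normalizer (N : Set G)) : β x ∈ Subgroup.normalizer (N : Set G) := by
  refine mem_normalizer_of_forall fun y hy => ?_
  obtain ⟨y, hy', rfl⟩ : y ∈ N.map β.toMonoidHom := h.symm ▸ hy
  show β x * β y * (β x)⁻¹ ∈ N
  rw [← map_inv, ← map_mul, ← map_mul]
  exact (apply_mem_iff h).2 (conj_mem_of_norm hx hy')

theorem com_apply (h5 : D.W5.map β.toMonoidHom = D.W5) {x : G} (hx : D.Com (β x)) : D.Com x := by
  intro q hq q' hq'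
  have := hx (β q) ((apply_mem_iff h5).2 hq) (β q') ((apply_mem_iff h5).2 hq')
  rw [← map_inv, ← map_mul, ← map_mul] at this
  have h2 := this.map β.symm.toMonoidHom
  simpa using h2

theorem map_P1 (h : D.U.map β.toMonoidHom = D.U) : D.P1.map β.toMonoidHom = D.P1 := by
  obtain ⟨hQ, -, h5, -⟩ := D.char h
  have hB := D.map_B h
  refine map_eq_of_le fun x hx => ?_
  by_contra hy
  set X := D.P1.map β.toMonoidHom with hX
  have hBX : D.B ≤ X := hB ▸ Subgroup.map_mono D.B_le_P1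
  have hXP : ∀ g ∈ X, g ∈ D.P1 → g ∈ D.B := by
    intro g hg hgP
    by_contra hgB
    have hle := D.P1_le_of hBX hgP hgB hg
    have heq : D.P1 = X := Subgroup.eq_of_le_of_card_ge hle (Subgroup.card_map_of_injective β.injective).le
    exact hy (heq ▸ (⟨x, hx, rfl⟩ : β x ∈ X))
  have hxX : β x ∈ X := ⟨x, hx, rfl⟩
  obtain ⟨k, -, p, hp, he⟩ := (D.norm_Q_cases (map_norm hQ hx.2)).resolve_left hy
  -- move to an element of `X` in `z r`
  obtain ⟨k', -, l', hl', hp'⟩ := D.exists_pow_mul_L (inv_mem hp)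
  have hp2 : p = l'⁻¹ * (D.u1 ^ k')⁻¹ := by rw [← inv_inv p, hp', mul_inv_rev]
  obtain ⟨r, hr, hs⟩ := D.hcov l'⁻¹ (inv_mem hl')
  have hu : ∀ j, D.u1 ^ j ∈ X := fun j => hBX (D.U_le_B (pow_mem D.m11 j))
  have hzr : D.z * r ∈ X := by
    have := mul_mem (mul_mem (mul_mem (inv_mem (hu k)) hxX) (hu k')) (inv_mem (hBX hs))
    rwa [he, hp2, show (D.u1 ^ k)⁻¹ * (D.u1 ^ k * D.z * (l'⁻¹ * (D.u1 ^ k')⁻¹)) * D.u1 ^ k' *
      (r⁻¹ * l'⁻¹)⁻¹ = D.z * r by group] at this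
  have hzrH : D.z * r ∉ D.H := fun hh => D.hz (by
    have := mul_mem hh (inv_mem (D.hLH (D.hrepsL r hr)))
    rwa [mul_inv_cancel_right] at this)
  rcases D.hsix r hr with hc | ⟨t, ht, hc⟩
  · obtain ⟨x0, hx0, hx0e⟩ := hzr
    have hc0 : D.Com x0 := D.com_apply h5 (hx0e.symm ▸ hc : D.Com (β.toMonoidHom x0))
    have hb : β x0 ∈ D.B := (apply_mem_iff hB).2 ((D.mem_B_iff hx0).2 hc0)
    exact hzrH (hx0e ▸ (D.B_le_P1 hb).1)
  · apply hc
    have hX' : (D.z * r)⁻¹ * t * (D.z * r) ∈ X :=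
      mul_mem (mul_mem (inv_mem hzr) (hBX (D.T_le_B ht))) hzr
    have hL' : (D.z * r)⁻¹ * t * (D.z * r) ∈ D.L :=
      conj_mem_of_norm' (mul_mem D.hzL (Subgroup.le_normalizer (D.hrepsL r hr))) (D.hTL ht)
    exact D.com_B (hXP _ hX' (D.L_le_P1 hL'))

theorem map_H (h : D.U.map β.toMonoidHom = D.U) : D.H.map β.toMonoidHom = D.H := by
  obtain ⟨-, hR, -, -⟩ := D.char h
  have hP := D.map_P1 h
  refine map_eq_of_le fun x hx => ?_
  have hle : D.H ≤ D.H.comap β.toMonoidHom := by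
    conv_lhs => rw [D.hHgen]
    rw [Subgroup.closure_le]
    have hPH : ∀ y ∈ D.P1, β y ∈ D.H := fun y hy => ((apply_mem_iff hP).2 hy).1
    rintro y (rfl | rfl | rfl | rfl | rfl)
    · exact hPH _ (D.B_le_P1 (D.U_le_B D.m11))
    · exact hPH _ (D.B_le_P1 (D.T_le_B D.mta))
    · exact hPH _ (D.B_le_P1 (D.T_le_B D.mtb))
    · exact hPH _ (D.L_le_P1 D.hwL)
    · exact D.norm_R_le (map_norm hR D.hfR)
  exact hle hx

theorem apply_zpow_gen {u : G} (hu : u ^ 5 = 1) {y : G} (hy : y ∈ Subgroup.zpowers u) (hy1 : y ≠ 1) :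
    ∃ m < 4, y = u ^ 2 ^ m := by
  obtain ⟨i, rfl⟩ := (isOfFinOrder_of_finite u).mem_powers_iff_mem_zpowers.2 hy
  have hlt := Nat.mod_lt i (show 5 > 0 by norm_num)
  have he : u ^ i = u ^ (i % 5) := pow_eq_pow_mod i hu
  simp only [ne_eq] at hy1
  rw [he] at hy1
  show ∃ m < 4, u ^ i = _
  rw [he]
  generalize i % 5 = r at hlt hy1 ⊢
  interval_cases r
  · simp at hy1
  · exact ⟨0, by norm_num, by norm_num⟩
  · exact ⟨1, by norm_num, by norm_num⟩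
  · exact ⟨3, by norm_num, (pow_eq_pow_mod (2 ^ 3) hu).symm⟩
  · exact ⟨2, by norm_num, by norm_num⟩

/-- An automorphism fixing `T`, `u1` and `u2` fixes `T` pointwise. -/
theorem fix_T (hT : D.T.map β.toMonoidHom = D.T) (h1 : β D.u1 = D.u1) (h2 : β D.u2 = D.u2) {t : G}
    (ht : t ∈ D.T) : β t = t := by
  obtain ⟨m, -, n, -, rfl⟩ := D.mem_T ht
  have e : ∀ {u : G} {c : ℕ}, β u = u →
      (D.ta ^ m * D.tb ^ n)⁻¹ * u * (D.ta ^ m * D.tb ^ n) = u ^ c →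
      Commute ((D.ta ^ m * D.tb ^ n) * (β (D.ta ^ m * D.tb ^ n))⁻¹) u := by
    intro u c hu hc
    have hb : (β (D.ta ^ m * D.tb ^ n))⁻¹ * u * β (D.ta ^ m * D.tb ^ n) = u ^ c := by
      conv_rhs => rw [← hu, ← map_pow, ← hc, map_mul, map_mul, map_inv, hu]
    show _ = _
    generalize D.ta ^ m * D.tb ^ n = a at hc hb ⊢
    calc a * (β a)⁻¹ * u = a * ((β a)⁻¹ * u * β a) * (β a)⁻¹ := by group
      _ = a * (a⁻¹ * u * a) * (β a)⁻¹ := by rw [hb, hc]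
      _ = u * (a * (β a)⁻¹) := by group
  have h := D.T_eq_one (mul_mem ht (inv_mem ((apply_mem_iff hT).2 ht)))
    (e h1 (D.conj_u1 m n)) (e h2 (D.conj_u2 m n))
  exact (mul_inv_eq_one.1 h).symm

theorem exists_torus (h : D.U.map β.toMonoidHom = D.U) (hT : D.T.map β.toMonoidHom = D.T) :
    ∃ t ∈ D.T, t⁻¹ * β D.u1 * t = D.u1 ∧ t⁻¹ * β D.u2 * t = D.u2 := by
  obtain ⟨hQ, hR, h5, -⟩ := D.char h
  -- `β` fixes the centralisers of `ta` and `tb` in `U`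
  obtain ⟨a, ha, b, hb, he⟩ := D.mem_T ((apply_mem_iff hT).2 D.mta)
  obtain ⟨a', ha', b', hb', he'⟩ := D.mem_T ((apply_mem_iff hT).2 D.mtb)
  have hy1 : β D.u1 ∈ D.R := (apply_mem_iff hR).2 D.m1R
  have hy2 : β D.u2 ∈ D.Q := (apply_mem_iff hQ).2 D.m22
  have hp : Nat.Prime 5 := by norm_num
  have hne : ∀ (u : G), u ^ 5 = 1 → u ≠ 1 → ∀ j < 4, u ^ 2 ^ j = u → j = 0 := fun u hu hne j hj he =>
    pow_two_mod hj (UFrame.mod_eq_one_of_pow_eq hu hne he)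
  have q1 : Commute (β D.u1) (β D.ta) := (D.a1.map β.toMonoidHom).symm
  have q2 : Commute (β D.u2) (β D.tb) := (D.b2.map β.toMonoidHom).symm
  -- `b = 0`
  obtain ⟨i, hi, r, hr, hy⟩ := exists_pow_mul (p := 5) (by norm_num) D.p1 (D.U_norm_W3 D.m11) hy1
  have hi0 : i ≠ 0 := by
    rintro rfl
    apply D.n1
    rw [← apply_mem_iff hQ, hy, pow_zero, one_mul]
    exact D.W3_le_Q hr
  have hb0 : b = 0 := by
    by_contra hb0
    apply hi0
    have hmem : D.u1 ^ i * r ∈ Subgroup.zpowers D.u1 ⊔ D.W3 := hy ▸ hy1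
    have htn : ∀ n ∈ D.W3, (β D.ta)⁻¹ * n * β D.ta ∈ D.W3 := fun n hn =>
      conj_mem_of_norm' (map_norm (D.char h).2.2.2 (by simpa using inv_mem D.ta_norm.2.2.2)) hn
    have hc : ((β D.ta)⁻¹ * D.u1 * β D.ta) * (D.u1 ^ 2 ^ b)⁻¹ ∈ D.W3 := by
      rw [he, D.conj_u1, mul_inv_cancel]; exact one_mem _
    have hc1 : ¬2 ^ b ≡ 1 [MOD 5] := fun hmod => hb0 (pow_two_mod hb hmod)
    have := mem_of_commute_layer hp D.p1 (D.U_norm_W3 D.m11) (fun h' => D.n1 (D.W3_le_Q h'))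
      htn hc hc1 hmem (hy ▸ q1)
    have h5' := pow_mem_imp hp D.p1 (fun h' => D.n1 (D.W3_le_Q h'))
      ((Subgroup.mul_mem_cancel_right _ hr).1 this)
    omega
  -- `a' = 0`
  obtain ⟨j, hj, r', hr', hy'⟩ := exists_pow_mul (p := 5) (by norm_num) D.p2 (D.U_norm_W3 D.m21) hy2
  have hj0 : j ≠ 0 := by
    rintro rfl
    apply D.n2R
    rw [← apply_mem_iff hR, hy', pow_zero, one_mul]
    exact D.W3_le_R hr'
  have ha0 : a' = 0 := by
    by_contra ha0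
    apply hj0
    have hmem : D.u2 ^ j * r' ∈ Subgroup.zpowers D.u2 ⊔ D.W3 := hy' ▸ hy2
    have htn : ∀ n ∈ D.W3, (β D.tb)⁻¹ * n * β D.tb ∈ D.W3 := fun n hn =>
      conj_mem_of_norm' (map_norm (D.char h).2.2.2 (by simpa using inv_mem D.tb_norm.2.2.2)) hn
    have hc : ((β D.tb)⁻¹ * D.u2 * β D.tb) * (D.u2 ^ 2 ^ a')⁻¹ ∈ D.W3 := by
      rw [he', D.conj_u2, mul_inv_cancel]; exact one_mem _
    have hc1 : ¬2 ^ a' ≡ 1 [MOD 5] := fun hmod => ha0 (pow_two_mod ha' hmod)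
    have := mem_of_commute_layer hp D.p2 (D.U_norm_W3 D.m21) D.n2 htn hc hc1 hmem (hy' ▸ q2)
    have h5' := pow_mem_imp hp D.p2 D.n2 ((Subgroup.mul_mem_cancel_right _ hr').1 this)
    omega
  subst hb0 ha0
  rw [pow_zero, mul_one] at he
  rw [pow_zero, one_mul] at he'
  -- so `β` fixes `⟨ta⟩` and `⟨tb⟩`
  have hza : (Subgroup.zpowers D.ta).map β.toMonoidHom = Subgroup.zpowers D.ta := map_eq_of_le fun x hx => by
    obtain ⟨k, rfl⟩ := hx
    rw [map_zpow, he]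
    exact zpow_mem (Subgroup.npow_mem_zpowers _ _) _
  have hzb : (Subgroup.zpowers D.tb).map β.toMonoidHom = Subgroup.zpowers D.tb := map_eq_of_le fun x hx => by
    obtain ⟨k, rfl⟩ := hx
    rw [map_zpow, he']
    exact zpow_mem (Subgroup.npow_mem_zpowers _ _) _
  have hc1 : Commute (β D.u1) D.ta := by
    obtain ⟨x, hx, hxe⟩ : D.ta ∈ (Subgroup.zpowers D.ta).map β.toMonoidHom :=
      hza.symm ▸ Subgroup.mem_zpowers _
    rw [← hxe]
    exact (commute_zpowers D.a1.symm hx).map β.toMonoidHom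
  have hc2 : Commute (β D.u2) D.tb := by
    obtain ⟨x, hx, hxe⟩ : D.tb ∈ (Subgroup.zpowers D.tb).map β.toMonoidHom :=
      hzb.symm ▸ Subgroup.mem_zpowers _
    rw [← hxe]
    exact (commute_zpowers D.b2.symm hx).map β.toMonoidHom
  have n1' : β D.u1 ≠ 1 := fun e => D.ne1 (β.injective (e.trans (map_one β).symm))
  have n2' : β D.u2 ≠ 1 := fun e => D.ne2 (β.injective (e.trans (map_one β).symm))
  obtain ⟨k1, hk1, e1⟩ := apply_zpow_gen D.p1 (D.cent_ta ((apply_mem_iff h).2 D.m11) hc1) n1'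
  obtain ⟨k2, hk2, e2⟩ := apply_zpow_gen D.p2 (D.cent_tb ((apply_mem_iff h).2 D.m21) hc2) n2'
  refine ⟨D.ta ^ (4 - k2) * D.tb ^ (4 - k1), mul_mem (pow_mem D.mta _) (pow_mem D.mtb _), ?_, ?_⟩
  · rw [e1, show ∀ (t : G) (n : ℕ), t⁻¹ * D.u1 ^ n * t = (t⁻¹ * D.u1 * t) ^ n from fun t n => by
      simpa using (conj_pow (a := t⁻¹) (b := D.u1) (i := n)).symm, D.conj_u1, ← pow_mul, ← pow_add,
      Nat.sub_add_cancel hk1.le, pow_eq_pow_mod _ D.p1]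
    simp
  · rw [e2, show ∀ (t : G) (n : ℕ), t⁻¹ * D.u2 ^ n * t = (t⁻¹ * D.u2 * t) ^ n from fun t n => by
      simpa using (conj_pow (a := t⁻¹) (b := D.u2) (i := n)).symm, D.conj_u2, ← pow_mul, ← pow_add,
      Nat.sub_add_cancel hk2.le, pow_eq_pow_mod _ D.p2]
    simp

/-- The uniqueness lemma: an element of `H` centralising `W3`, two root elements and `T` is trivial. -/
theorem eq_one_of_cent {e : G} (he : e ∈ D.H) (h3 : ∀ x ∈ D.W3, Commute e x) (hT : ∀ t ∈ D.T, Commute e t)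
    (h12 : Commute e D.u1 ∨ Commute e D.u2) : e = 1 := by
  have h3' : ∀ x ∈ D.W3, e⁻¹ * x * e = x := fun x hx => by
    rw [mul_assoc, ← (h3 x hx).eq, inv_mul_cancel_left]
  obtain ⟨k, -, hl⟩ := D.hfix3 e he fun x hx => by
    rw [h3' x hx]; exact D.hQL (D.W3_le_Q hx)
  have hP : e ∈ D.P1 := by
    have := mul_mem (D.B_le_P1 (D.U_le_B (pow_mem D.m11 k))) (D.L_le_P1 hl)
    rwa [mul_inv_cancel_left] at this
  have h53 : ∀ q ∈ D.W5, e⁻¹ * q * e = q := fun q hq => h3' q (D.W4_le_W3 (D.W5_le_W4 hq))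
  have hB : e ∈ D.B := (D.mem_B_iff hP).2 fun q hq q' hq' => by
    rw [h53 q hq]; exact D.W5_abelian hq hq'
  obtain ⟨t, ht, v, hv, rfl⟩ := D.mem_B hB
  have hvT : ∀ s ∈ D.T, Commute v s := fun s hs => by
    have := (D.T_comm (inv_mem ht) hs).mul_left (hT s hs)
    rwa [inv_mul_cancel_left] at this
  obtain rfl : v = 1 := D.cent_T hv (hvT _ D.mta) (hvT _ D.mtb)
  rw [mul_one] at h12 h3 ⊢
  -- `t` centralises `u3` and one of `u1`, `u2`
  obtain ⟨m, hm, n, hn, rfl⟩ := D.mem_T ht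
  have hx3 : Commute (D.ta ^ m * D.tb ^ n) D.u3 := h3 _ D.m33
  set t := D.ta ^ m * D.tb ^ n with htdef
  have hfix : ∀ {u : G}, Commute t u → t⁻¹ * u * t = u := fun h => by
    rw [mul_assoc, ← h.eq, inv_mul_cancel_left]
  -- conjugation of `u3 = ⁅u1, u2⁆`
  have hcomm : ⁅D.u1 ^ 2 ^ n, D.u2 ^ 2 ^ m⁆ = ⁅D.u1, D.u2⁆ := by
    rw [← D.conj_u1 m n, ← D.conj_u2 m n, ← htdef, D.c12]
    calc ⁅t⁻¹ * D.u1 * t, t⁻¹ * D.u2 * t⁆ = t⁻¹ * ⁅D.u1, D.u2⁆ * t := by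
          simp only [commutatorElement_def]; group
      _ = D.u3 := by rw [D.c12, hfix hx3]
  have hmod : ∀ a b : ℕ, ⁅D.u1 ^ a, D.u2 ^ b⁆ * (D.u3 ^ (a * b))⁻¹ ∈ D.W4 := by
    have step1 : ∀ a : ℕ, ⁅D.u1 ^ a, D.u2⁆ * (D.u3 ^ a)⁻¹ ∈ D.W4 := by
      intro a
      induction a with
      | zero => simp
      | succ a ih =>
        have e : ⁅D.u1 ^ (a + 1), D.u2⁆ * (D.u3 ^ (a + 1))⁻¹ =
            (D.u1 * (⁅D.u1 ^ a, D.u2⁆ * (D.u3 ^ a)⁻¹) * D.u1⁻¹) *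
            (⁅D.u1, D.u3 ^ a⁆) * (D.u3 ^ a * ⁅D.u1, D.u2⁆ * (D.u3 ^ (a + 1))⁻¹) := by
          rw [pow_succ' D.u1 a]; simp only [commutatorElement_def]; group
        rw [e, D.c12, ← pow_succ, mul_inv_cancel, mul_one]
        exact mul_mem (conj_mem_of_norm (D.U_norm_W4 D.m11) ih) (D.u1_W3 (pow_mem D.m33 a))
    intro a b
    induction b with
    | zero => simp
    | succ b ih =>
      have e : ⁅D.u1 ^ a, D.u2 ^ (b + 1)⁆ * (D.u3 ^ (a * (b + 1)))⁻¹ =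
          (⁅D.u1 ^ a, D.u2⁆ * (D.u3 ^ a)⁻¹) *
          (D.u3 ^ a * ((D.u2 * (⁅D.u1 ^ a, D.u2 ^ b⁆ * (D.u3 ^ (a * b))⁻¹) * D.u2⁻¹) *
            ⁅D.u2, D.u3 ^ (a * b)⁆) * (D.u3 ^ a)⁻¹) := by
        rw [pow_succ' D.u2 b, Nat.mul_succ, Nat.add_comm (a * b) a, pow_add]
        simp only [commutatorElement_def]; group
      rw [e]
      exact mul_mem (step1 a) (conj_mem_of_norm (D.U_norm_W4 (pow_mem (D.W3_le_U D.m33) _))
        (mul_mem (conj_mem_of_norm (D.U_norm_W4 D.m21) ih)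
          (D.W5_le_W4 (D.W6_le_W5 (D.u2_W3 (pow_mem D.m33 _))))))
  have hprod : 2 ^ n * 2 ^ m % 5 = 1 := by
    have h := hmod (2 ^ n) (2 ^ m)
    rw [hcomm, D.c12] at h
    by_contra hne
    have hpow : D.u3 ^ ((2 ^ n * 2 ^ m) + 4) ∈ D.W4 := by
      have : (D.u3 * (D.u3 ^ (2 ^ n * 2 ^ m))⁻¹)⁻¹ ∈ D.W4 := inv_mem h
      convert this using 1
      rw [mul_inv_rev, inv_inv, pow_add, show D.u3 ^ 4 = D.u3⁻¹ by
        rw [eq_inv_iff_mul_eq_one, ← pow_succ]; exact D.p3]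
    have := pow_mem_imp (by norm_num) D.p3 D.n3 hpow
    omega
  rcases h12 with h | h
  · have hn0 : n = 0 := pow_two_mod hn (UFrame.mod_eq_one_of_pow_eq D.p1 D.ne1
      ((D.conj_u1 m n).symm.trans (hfix h)))
    subst hn0
    have hm0 : m = 0 := pow_two_mod hm (by simpa using hprod)
    subst hm0
    simp [htdef]
  · have hm0 : m = 0 := pow_two_mod hm (UFrame.mod_eq_one_of_pow_eq D.p2 D.ne2
      ((D.conj_u2 m n).symm.trans (hfix h)))
    subst hm0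
    have hn0 : n = 0 := pow_two_mod hn (by simpa using hprod)
    subst hn0
    simp [htdef]

/-- An automorphism fixing `U`, `T`, `u1`, `u2` is trivial. -/
theorem eq_one_of_fix (h : D.U.map β.toMonoidHom = D.U) (hT : D.T.map β.toMonoidHom = D.T)
    (h1 : β D.u1 = D.u1) (h2 : β D.u2 = D.u2) : β = 1 := by
  obtain ⟨hQ, hR, -, -⟩ := D.char h
  have fU : ∀ x ∈ D.U, β x = x := fun x hx =>
    apply_eq_self_of_closure (S := {D.u1, D.u2}) (by rintro s (rfl | rfl) <;> assumption)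
      (D.U_eq_closure ▸ hx)
  have fT : ∀ x ∈ D.T, β x = x := fun x hx => D.fix_T hT h1 h2 hx
  have hH := D.map_H h
  -- `x⁻¹ β x` centralises every fixed element whose `x`-conjugate is fixed
  have cent : ∀ {x y : G}, β y = y → β (x * y * x⁻¹) = x * y * x⁻¹ → Commute (x⁻¹ * β x) y := by
    intro x y hy hxy
    have e : β x * y * (β x)⁻¹ = x * y * x⁻¹ := by rwa [map_mul, map_mul, map_inv, hy] at hxy
    show _ = _
    calc x⁻¹ * β x * y = x⁻¹ * (β x * y * (β x)⁻¹) * β x := by group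
      _ = x⁻¹ * (x * y * x⁻¹) * β x := by rw [e]
      _ = y * (x⁻¹ * β x) := by group
  have fw : β D.w = D.w := by
    have hwH : D.w ∈ D.H := D.hLH D.hwL
    have hwQ := D.hLQ D.hwL
    have hc : ∀ y ∈ D.Q, Commute (D.w⁻¹ * β D.w) y := fun y hy =>
      cent (fU y (D.Q_le_U hy)) (fU _ (D.Q_le_U (conj_mem_of_norm hwQ hy)))
    refine (inv_mul_eq_one.1 (D.eq_one_of_cent (mul_mem (inv_mem hwH) ((apply_mem_iff hH).2 hwH))
      (fun y hy => hc y (D.W3_le_Q hy))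
      (fun y hy => cent (fT y hy) (fT _ (conj_mem_of_norm D.hwT hy))) (Or.inr (hc _ D.m22)))).symm
  have ff : β D.f = D.f := by
    have hc : ∀ y ∈ D.R, Commute (D.f⁻¹ * β D.f) y := fun y hy =>
      cent (fU y (D.R_le_U hy)) (fU _ (D.R_le_U (conj_mem_of_norm D.hfR hy)))
    refine (inv_mul_eq_one.1 (D.eq_one_of_cent (mul_mem (inv_mem D.hfH) ((apply_mem_iff hH).2 D.hfH))
      (fun y hy => hc y (D.W3_le_R hy))
      (fun y hy => cent (fT y hy) (fT _ (conj_mem_of_norm D.hfT hy))) (Or.inl (hc _ D.m1R)))).symm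
  have fH : ∀ x ∈ D.H, β x = x := fun x hx => by
    refine apply_eq_self_of_closure (S := {D.u1, D.ta, D.tb, D.w, D.f}) ?_ (D.hHgen ▸ hx)
    rintro s (rfl | rfl | rfl | rfl | rfl)
    exacts [h1, fT _ D.mta, fT _ D.mtb, fw, ff]
  have hzH : β D.z ∉ D.H := fun hh => D.hz ((apply_mem_iff hH).1 hh)
  obtain ⟨k, hk, p, hp, he⟩ :=
    (D.norm_Q_cases (map_norm hQ D.hzQ)).resolve_left fun hh => hzH hh.1
  have hLmap : D.L.map β.toMonoidHom = D.L := map_eq_of_le fun x hx => (fH x (D.hLH hx)).symm ▸ hx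
  have hzL : β D.z ∈ Subgroup.normalizer (D.L : Set G) := map_norm hLmap D.hzL
  have hk0 : k = 0 := by
    by_contra hk0
    obtain ⟨x, hx, hxn⟩ := D.hLu k (Nat.one_le_iff_ne_zero.2 hk0) hk
    apply hxn
    refine D.hstab _ (mul_mem (mul_mem (inv_mem (pow_mem D.hu1H k)) (D.hLH hx)) (pow_mem D.hu1H k)) ?_
    have hpH : p ∈ D.H := hp.1
    have := mul_mem (mul_mem hpH (D.hLH (conj_mem_of_norm' hzL hx))) (inv_mem hpH)
    rwa [he, show p * ((D.u1 ^ k * D.z * p)⁻¹ * x * (D.u1 ^ k * D.z * p)) * p⁻¹ =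
      D.z⁻¹ * ((D.u1 ^ k)⁻¹ * x * D.u1 ^ k) * D.z by group] at this
  subst hk0
  rw [pow_zero, one_mul] at he
  have hc : ∀ y ∈ D.L, Commute p y := fun y hy => by
    have := cent (x := D.z) (fH y (D.hLH hy)) (fH _ (D.hLH (conj_mem_of_norm D.hzL hy)))
    rwa [he, inv_mul_cancel_left] at this
  have hp1 : p = 1 := D.eq_one_of_cent hp.1 (fun y hy => hc y (D.hQL (D.W3_le_Q hy)))
    (fun y hy => hc y (D.hTL hy)) (Or.inr (hc _ (D.hQL D.m22)))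
  have fz : β D.z = D.z := by rw [he, hp1, mul_one]
  ext x
  show β x = x
  refine apply_eq_self_of_closure (S := insert D.z (D.H : Set G)) ?_ (D.hGgen ▸ Subgroup.mem_top x)
  rintro s (rfl | hs)
  exacts [fz, fH s hs]

/-- Every automorphism is inner. -/
theorem exists_conj (D : Data G) (α : MulAut G) : ∃ g : G, MulAut.conj g = α := by
  haveI : Fact (Nat.Prime 5) := ⟨by norm_num⟩
  haveI : Fact (Nat.Prime 2) := ⟨Nat.prime_two⟩
  obtain ⟨g, -, hg⟩ := exists_conj_of_card (p := 5) (k := 6) (B := ⊤)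
    (A₁ := D.U.map α.toMonoidHom) (A₂ := D.U) le_top le_top
    (by rw [Subgroup.card_map_of_injective α.injective, D.card_U]) D.card_U
    (by rw [Subgroup.card_top]; exact D.hG)
  let β₁ : MulAut G := MulAut.conj g * α
  have hU1 : D.U.map β₁.toMonoidHom = D.U := by
    conv_rhs => rw [← hg, Subgroup.map_map]
    rfl
  obtain ⟨v, hv, hTv⟩ := exists_conj_of_card (p := 2) (k := 4) (B := D.B)
    (A₁ := D.T.map β₁.toMonoidHom) (A₂ := D.T)
    (fun x hx => by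
      obtain ⟨y, hy, rfl⟩ := hx
      exact (apply_mem_iff (D.map_B hU1)).2 (D.T_le_B hy)) D.T_le_B
    (by rw [Subgroup.card_map_of_injective β₁.injective, D.card_T]; norm_num)
    (by rw [D.card_T]; norm_num) (by rw [D.card_B]; norm_num)
  let β₂ : MulAut G := MulAut.conj v * β₁
  have hU2 : D.U.map β₂.toMonoidHom = D.U := by
    refine map_eq_of_le fun x hx => ?_
    show v * β₁ x * v⁻¹ ∈ D.U
    exact conj_mem_of_norm (D.B_norm_U hv) ((apply_mem_iff hU1).2 hx)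
  have hT2 : D.T.map β₂.toMonoidHom = D.T := by
    conv_rhs => rw [← hTv, Subgroup.map_map]
    rfl
  obtain ⟨t, ht, e1, e2⟩ := D.exists_torus hU2 hT2
  let β₃ : MulAut G := MulAut.conj t⁻¹ * β₂
  have happ : ∀ x, β₃ x = t⁻¹ * β₂ x * t := fun x => by
    simp [β₃, MulAut.mul_apply, MulAut.conj_apply]
  have h3 : β₃ = 1 := by
    refine D.eq_one_of_fix (map_eq_of_le fun x hx => ?_) (map_eq_of_le fun x hx => ?_)
      (by rw [happ, e1]) (by rw [happ, e2])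
    · rw [happ]; exact conj_mem_of_norm' (D.T_norm_U ht) ((apply_mem_iff hU2).2 hx)
    · rw [happ]; exact mul_mem (mul_mem (inv_mem ht) ((apply_mem_iff hT2).2 hx)) ht
  refine ⟨(t⁻¹ * v * g)⁻¹, ?_⟩
  have : MulAut.conj (t⁻¹ * v * g) * α = 1 := by
    rw [map_mul, map_mul, mul_assoc, mul_assoc]; exact h3
  rw [map_inv]
  exact inv_eq_of_mul_eq_one_right this

end Data

end Cfsg.LyOut55
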