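import Cfsg.Agent.Lib.LyOut55.UFrame

set_option autoImplicit false

/-! The torus of a `UFrame`. -/

open scoped commutatorElement

namespace Cfsg.LyOut55

variable {G : Type*} [Group G]

theorem conj_pow_eq {t x : G} {c : ℕ} (h : t⁻¹ * x * t = x ^ c) (m : ℕ) :
    (t ^ m)⁻¹ * x * t ^ m = x ^ c ^ m := by
  induction m with
  | zero => simp
  | succ m ih =>
    have hx : ∀ j : ℕ, t⁻¹ * x ^ j * t = (x ^ c) ^ j := fun j => by
      have := conj_pow (a := t⁻¹) (b := x) (i := j)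
      rw [inv_inv] at this
      rw [← this, h]
    rw [pow_succ t m, show (t ^ m * t)⁻¹ * x * (t ^ m * t) = t⁻¹ * ((t ^ m)⁻¹ * x * t ^ m) * t by group,
      ih, hx, ← pow_mul, pow_succ, Nat.mul_comm]

theorem pow_two_mod {m : ℕ} (hm : m < 4) (h : 2 ^ m % 5 = 1) : m = 0 := by
  interval_cases m <;> simp_all

/-- Two subgroups of full `p`-power order in `B` are conjugate by an element of `B`. -/
theorem exists_conj_of_card [Finite G] {p k : ℕ} [Fact p.Prime] {B A₁ A₂ : Subgroup G} (h1 : A₁ ≤ B)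
    (h2 : A₂ ≤ B) (c1 : Nat.card A₁ = p ^ k) (c2 : Nat.card A₂ = p ^ k)
    (hB : ¬p ^ (k + 1) ∣ Nat.card B) : ∃ v ∈ B, A₁.map (MulAut.conj v).toMonoidHom = A₂ := by
  have hp : p.Prime := Fact.out
  have hd1 : p ^ k ∣ Nat.card B := c1 ▸ Subgroup.card_dvd_of_le h1
  have hv : (Nat.card B).factorization p = k := by
    have h0 : Nat.card B ≠ 0 := Nat.card_pos.ne'
    refine le_antisymm ?_ ((hp.pow_dvd_iff_le_factorization h0).1 hd1)
    by_contra hlt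
    exact hB ((hp.pow_dvd_iff_le_factorization h0).2 (by omega))
  have e : ∀ A : Subgroup G, A ≤ B → Nat.card A = p ^ k →
      Nat.card (A.subgroupOf B) = p ^ (Nat.card B).factorization p := fun A hA hc => by
    rw [hv, ← hc]
    exact Nat.card_congr (Subgroup.subgroupOfEquivOfLe hA).toEquiv
  let S₁ : Sylow p B := Sylow.ofCard (A₁.subgroupOf B) (e A₁ h1 c1)
  let S₂ : Sylow p B := Sylow.ofCard (A₂.subgroupOf B) (e A₂ h2 c2)
  obtain ⟨v, hvS⟩ := MulAction.exists_smul_eq B S₁ S₂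
  refine ⟨v, v.2, Subgroup.eq_of_le_of_card_ge ?_ ?_⟩
  · rintro y ⟨x, hx, rfl⟩
    have hmem : MulAut.conj v ⟨x, h1 hx⟩ ∈ (v • S₁ : Sylow p B).toSubgroup := by
      rw [Sylow.coe_subgroup_smul, Subgroup.mem_pointwise_smul_iff_inv_smul_mem]
      simpa [MulAut.smul_def, S₁, Subgroup.mem_subgroupOf, MulAut.conj_apply, mul_assoc] using hx
    rw [hvS] at hmem
    simpa [S₂, Subgroup.mem_subgroupOf, MulAut.conj_apply] using hmem
  · rw [Subgroup.card_map_of_injective (MulAut.conj (v : G)).injective, c1, c2]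

namespace UFrame

variable (F : UFrame G)

theorem conj_u1 (m n : ℕ) :
    (F.ta ^ m * F.tb ^ n)⁻¹ * F.u1 * (F.ta ^ m * F.tb ^ n) = F.u1 ^ 2 ^ n := by
  have h : (F.ta ^ m)⁻¹ * F.u1 * F.ta ^ m = F.u1 := by
    rw [mul_assoc, ← (F.a1.pow_left m).eq, inv_mul_cancel_left]
  rw [mul_inv_rev, show (F.tb ^ n)⁻¹ * (F.ta ^ m)⁻¹ * F.u1 * (F.ta ^ m * F.tb ^ n) =
    (F.tb ^ n)⁻¹ * ((F.ta ^ m)⁻¹ * F.u1 * F.ta ^ m) * F.tb ^ n by group, h]
  exact conj_pow_eq F.b1 n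

theorem conj_u2 (m n : ℕ) :
    (F.ta ^ m * F.tb ^ n)⁻¹ * F.u2 * (F.ta ^ m * F.tb ^ n) = F.u2 ^ 2 ^ m := by
  have h : (F.tb ^ n)⁻¹ * F.u2 * F.tb ^ n = F.u2 := by
    rw [mul_assoc, ← (F.b2.pow_left n).eq, inv_mul_cancel_left]
  rw [((F.tcomm.pow_pow m n)).eq,
    show (F.tb ^ n * F.ta ^ m)⁻¹ * F.u2 * (F.tb ^ n * F.ta ^ m) =
    (F.ta ^ m)⁻¹ * ((F.tb ^ n)⁻¹ * F.u2 * F.tb ^ n) * F.ta ^ m by group, h]
  exact conj_pow_eq F.a2 m

variable [Finite G]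

theorem mem_T {t : G} (ht : t ∈ F.T) :
    ∃ m, m < 4 ∧ ∃ n, n < 4 ∧ t = F.ta ^ m * F.tb ^ n := by
  have hnorm : F.ta ∈ Subgroup.normalizer (Subgroup.zpowers F.tb : Set G) :=
    mem_normalizer_of_forall fun x hx => by
      rw [(commute_zpowers F.tcomm hx).eq, mul_inv_cancel_right]; exact hx
  obtain ⟨m, hm, y, hy, rfl⟩ := exists_pow_mul (by norm_num) F.ta4 hnorm ht
  obtain ⟨n, rfl⟩ := (isOfFinOrder_of_finite F.tb).mem_powers_iff_mem_zpowers.2 hy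
  exact ⟨m, hm, n % 4, Nat.mod_lt _ (by norm_num),
    by show _ * F.tb ^ n = _; rw [pow_eq_pow_mod n F.tb4]⟩

theorem T_comm {s t : G} (hs : s ∈ F.T) (ht : t ∈ F.T) : Commute s t := by
  obtain ⟨i, -, j, -, rfl⟩ := F.mem_T hs
  obtain ⟨m, -, n, -, rfl⟩ := F.mem_T ht
  exact (((Commute.refl F.ta).pow_pow i m).mul_right (F.tcomm.pow_pow i n)).mul_left
    ((F.tcomm.symm.pow_pow j m).mul_right ((Commute.refl F.tb).pow_pow j n))

theorem mod_eq_one_of_pow_eq {u : G} (hu : u ^ 5 = 1) (hne : u ≠ 1) {k : ℕ} (h : u ^ k = u) :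
    k % 5 = 1 := by
  rw [pow_eq_pow_mod k hu] at h
  have hlt := Nat.mod_lt k (show 5 > 0 by norm_num)
  generalize k % 5 = r at h hlt ⊢
  have h5 : ∀ j, u ^ j = 1 → 5 ∣ j := fun j => pow_eq_one_imp (by norm_num) hu hne
  rcases Nat.eq_zero_or_pos r with rfl | hr
  · exact absurd (by simpa using h.symm) hne
  · have h1 : u ^ (r - 1) = 1 := by
      have := mul_right_cancel (a := u ^ (r - 1)) (b := u) (c := 1)
        (by rw [← pow_succ, Nat.sub_add_cancel hr, h, one_mul])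
      exact this
    have := h5 _ h1
    omega

theorem ne1 : F.u1 ≠ 1 := fun h => F.n1 (h ▸ one_mem _)

theorem ne2 : F.u2 ≠ 1 := fun h => F.n2 (h ▸ one_mem _)

theorem T_eq_one {t : G} (ht : t ∈ F.T) (h1 : Commute t F.u1) (h2 : Commute t F.u2) : t = 1 := by
  obtain ⟨m, hm, n, hn, rfl⟩ := F.mem_T ht
  have e1 := F.conj_u1 m n
  rw [mul_assoc, ← h1.eq, inv_mul_cancel_left] at e1
  have e2 := F.conj_u2 m n
  rw [mul_assoc, ← h2.eq, inv_mul_cancel_left] at e2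
  rw [pow_two_mod hm (mod_eq_one_of_pow_eq F.p2 F.ne2 e2.symm),
    pow_two_mod hn (mod_eq_one_of_pow_eq F.p1 F.ne1 e1.symm)]
  simp

theorem card_T : Nat.card F.T = 16 := by
  let g : Fin 4 × Fin 4 → F.T := fun q =>
    ⟨F.ta ^ (q.1 : ℕ) * F.tb ^ (q.2 : ℕ), mul_mem (pow_mem F.mta _) (pow_mem F.mtb _)⟩
  have hinj : Function.Injective g := by
    rintro ⟨i, j⟩ ⟨m, n⟩ h
    have h' : F.ta ^ (i : ℕ) * F.tb ^ (j : ℕ) = F.ta ^ (m : ℕ) * F.tb ^ (n : ℕ) := congrArg Subtype.val h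
    have e1 := F.conj_u1 i j
    rw [h', F.conj_u1] at e1
    have e2 := F.conj_u2 i j
    rw [h', F.conj_u2] at e2
    have key : ∀ (u : G), u ^ 5 = 1 → u ≠ 1 → ∀ a b : ℕ, a < 4 → b < 4 →
        u ^ 2 ^ a = u ^ 2 ^ b → a = b := by
      intro u hu hne a b ha hb hab
      have ho : orderOf u = 5 := haveI : Fact (Nat.Prime 5) := ⟨by norm_num⟩; orderOf_eq_prime hu hne
      rw [pow_eq_pow_iff_modEq, ho] at hab
      unfold Nat.ModEq at hab
      interval_cases a <;> interval_cases b <;> simp_all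
    rw [Prod.mk.injEq, Fin.ext_iff, Fin.ext_iff]
    exact ⟨(key _ F.p2 F.ne2 _ _ m.isLt i.isLt e2).symm, (key _ F.p1 F.ne1 _ _ n.isLt j.isLt e1).symm⟩
  have hsurj : Function.Surjective g := by
    rintro ⟨t, ht⟩
    obtain ⟨m, hm, n, hn, rfl⟩ := F.mem_T ht
    exact ⟨(⟨m, hm⟩, ⟨n, hn⟩), rfl⟩
  rw [← Nat.card_eq_of_bijective g ⟨hinj, hsurj⟩]
  simp

/-- Elements whose inverse conjugation preserves every layer. -/
theorem t_norm {t : G} {c3 c4 c5 c6 : ℕ}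
    (h6 : t⁻¹ * F.u6 * t = F.u6 ^ c6) (h5 : (t⁻¹ * F.u5 * t) * (F.u5 ^ c5)⁻¹ ∈ F.W6)
    (h4 : (t⁻¹ * F.u4 * t) * (F.u4 ^ c4)⁻¹ ∈ F.W5) (h3 : (t⁻¹ * F.u3 * t) * (F.u3 ^ c3)⁻¹ ∈ F.W4) :
    t⁻¹ ∈ Subgroup.normalizer (F.W6 : Set G) ∧ t⁻¹ ∈ Subgroup.normalizer (F.W5 : Set G) ∧
      t⁻¹ ∈ Subgroup.normalizer (F.W4 : Set G) ∧ t⁻¹ ∈ Subgroup.normalizer (F.W3 : Set G) := by
  have step : ∀ {u : G} {c : ℕ} {N : Subgroup G}, t⁻¹ ∈ Subgroup.normalizer (N : Set G) →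
      (t⁻¹ * u * t) * (u ^ c)⁻¹ ∈ N → u ∈ Subgroup.normalizer (N : Set G) →
      t⁻¹ ∈ Subgroup.normalizer ((Subgroup.zpowers u ⊔ N : Subgroup G) : Set G) := by
    intro u c N hN hc _
    refine norm_zpowers_sup hN ?_
    rw [inv_inv, show t⁻¹ * u * t = t⁻¹ * u * t * (u ^ c)⁻¹ * u ^ c by group]
    exact mul_mem (Subgroup.mem_sup_right hc) (Subgroup.mem_sup_left (Subgroup.npow_mem_zpowers u c))
  have n6 : t⁻¹ ∈ Subgroup.normalizer (F.W6 : Set G) := mem_normalizer_of_forall fun x hx => by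
    obtain ⟨k, rfl⟩ := hx
    rw [← conj_zpow, inv_inv, h6]
    exact zpow_mem (pow_mem F.m66 _) _
  have n5' := step n6 h5 (F.U_norm_W6 (F.W5_le_U F.m55))
  have n4' := step n5' h4 (F.U_norm_W5 (F.W4_le_U F.m44))
  exact ⟨n6, n5', n4', step n4' h3 (F.U_norm_W4 (F.W3_le_U F.m33))⟩

theorem ta_norm : F.ta⁻¹ ∈ Subgroup.normalizer (F.W6 : Set G) ∧
    F.ta⁻¹ ∈ Subgroup.normalizer (F.W5 : Set G) ∧
    F.ta⁻¹ ∈ Subgroup.normalizer (F.W4 : Set G) ∧ F.ta⁻¹ ∈ Subgroup.normalizer (F.W3 : Set G) :=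
  F.t_norm F.a6 F.a5 F.a4 F.a3

theorem tb_norm : F.tb⁻¹ ∈ Subgroup.normalizer (F.W6 : Set G) ∧
    F.tb⁻¹ ∈ Subgroup.normalizer (F.W5 : Set G) ∧
    F.tb⁻¹ ∈ Subgroup.normalizer (F.W4 : Set G) ∧ F.tb⁻¹ ∈ Subgroup.normalizer (F.W3 : Set G) :=
  F.t_norm F.b6 F.b5 F.b4 F.b3

theorem T_norm_W5 : F.T ≤ Subgroup.normalizer (F.W5 : Set G) := by
  refine sup_le (Subgroup.zpowers_le.2 ?_) (Subgroup.zpowers_le.2 ?_)
  · simpa using inv_mem F.ta_norm.2.1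
  · simpa using inv_mem F.tb_norm.2.1

theorem T_norm_Q : F.T ≤ Subgroup.normalizer (F.Q : Set G) := by
  refine sup_le (Subgroup.zpowers_le.2 ?_) (Subgroup.zpowers_le.2 ?_) <;> rw [← inv_mem_iff]
  · refine norm_zpowers_sup F.ta_norm.2.2.2 ?_
    rw [inv_inv, F.a2]
    exact Subgroup.mem_sup_left (Subgroup.npow_mem_zpowers _ _)
  · refine norm_zpowers_sup F.tb_norm.2.2.2 ?_
    rw [inv_inv, mul_assoc, ← F.b2.eq, inv_mul_cancel_left]
    exact Subgroup.mem_sup_left (Subgroup.mem_zpowers _)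

theorem T_norm_U : F.T ≤ Subgroup.normalizer (F.U : Set G) := by
  refine sup_le (Subgroup.zpowers_le.2 ?_) (Subgroup.zpowers_le.2 ?_) <;> rw [← inv_mem_iff]
  · refine norm_zpowers_sup (inv_mem (F.T_norm_Q F.mta)) ?_
    rw [inv_inv, mul_assoc, ← F.a1.eq, inv_mul_cancel_left]
    exact Subgroup.mem_sup_left (Subgroup.mem_zpowers _)
  · refine norm_zpowers_sup (inv_mem (F.T_norm_Q F.mtb)) ?_
    rw [inv_inv, F.b1]
    exact Subgroup.mem_sup_left (Subgroup.npow_mem_zpowers _ _)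

/-- The Borel subgroup. -/
def B : Subgroup G := F.T ⊔ F.U

theorem U_le_B : F.U ≤ F.B := le_sup_right
theorem T_le_B : F.T ≤ F.B := le_sup_left

theorem mem_B {x : G} (hx : x ∈ F.B) : ∃ t ∈ F.T, ∃ v ∈ F.U, x = t * v := by
  rw [← SetLike.mem_coe, B, Subgroup.coe_mul_of_left_le_normalizer_right _ _ F.T_norm_U] at hx
  obtain ⟨t, ht, v, hv, rfl⟩ := Set.mem_mul.1 hx
  exact ⟨t, ht, v, hv, rfl⟩

theorem B_norm_U : F.B ≤ Subgroup.normalizer (F.U : Set G) := sup_le F.T_norm_U Subgroup.le_normalizer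

theorem B_norm_W5 : F.B ≤ Subgroup.normalizer (F.W5 : Set G) := sup_le F.T_norm_W5 F.U_norm_W5

theorem U_inter_T {x : G} (hx : x ∈ F.U) (ht : x ∈ F.T) : x = 1 := by
  have h1 : orderOf x ∣ 5 ^ 6 := by
    rw [← F.card_U]
    exact Subgroup.orderOf_dvd_natCard _ hx
  have h2 : orderOf x ∣ 16 := by
    rw [← F.card_T]
    exact Subgroup.orderOf_dvd_natCard _ ht
  exact orderOf_eq_one_iff.1 (Nat.dvd_one.1 (Nat.Coprime.gcd_eq_one (m := 5 ^ 6) (n := 16) (by norm_num)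
    ▸ Nat.dvd_gcd h1 h2))

theorem card_B : Nat.card F.B = 16 * 5 ^ 6 := by
  let g : F.T × F.U → F.B := fun q =>
    ⟨(q.1 : G) * q.2, mul_mem (F.T_le_B q.1.2) (F.U_le_B q.2.2)⟩
  have hinj : Function.Injective g := by
    rintro ⟨s, v⟩ ⟨t, w⟩ h
    have h' : (s : G) * v = t * w := congrArg Subtype.val h
    have e : (t : G)⁻¹ * s = w * (v : G)⁻¹ := by
      rw [eq_mul_inv_iff_mul_eq, mul_assoc, h', inv_mul_cancel_left]
    have hst : (t : G)⁻¹ * s = 1 :=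
      F.U_inter_T (e ▸ mul_mem w.2 (inv_mem v.2)) (mul_mem (inv_mem t.2) s.2)
    have : s = t := Subtype.ext (inv_mul_eq_one.1 hst).symm
    subst this
    rw [Prod.mk.injEq]
    exact ⟨rfl, Subtype.ext (mul_left_cancel h')⟩
  have hsurj : Function.Surjective g := by
    rintro ⟨x, hx⟩
    obtain ⟨t, ht, v, hv, rfl⟩ := F.mem_B hx
    exact ⟨(⟨t, ht⟩, ⟨v, hv⟩), rfl⟩
  rw [← Nat.card_eq_of_bijective g ⟨hinj, hsurj⟩, Nat.card_prod, F.card_T, F.card_U]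

theorem cent_ta {x : G} (hx : x ∈ F.U) (h : Commute x F.ta) : x ∈ Subgroup.zpowers F.u1 := by
  have hp : Nat.Prime 5 := by norm_num
  obtain ⟨i, -, q, hq, rfl⟩ := exists_pow_mul (p := 5) (by norm_num) F.p1 (F.U_norm_Q F.m11) hx
  have hq0 : Commute q F.ta := by
    have := ((F.a1.pow_right i).symm.inv_left).mul_left h
    rwa [inv_mul_cancel_left] at this
  have tn : ∀ {N : Subgroup G}, F.ta⁻¹ ∈ Subgroup.normalizer (N : Set G) →
      ∀ n ∈ N, F.ta⁻¹ * n * F.ta ∈ N := fun hN n hn => by simpa using conj_mem_of_norm hN hn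
  obtain ⟨n6, n5', n4', n3'⟩ := F.ta_norm
  have q3 := mem_of_commute_layer (t := F.ta) (c := 2) hp F.p2 (F.U_norm_W3 F.m21) F.n2 (tn n3')
    (by rw [F.a2, mul_inv_cancel]; exact one_mem _) (by decide) hq hq0
  have q4 := mem_of_commute_layer (c := 2) hp F.p3 (F.U_norm_W4 (F.W3_le_U F.m33)) F.n3 (tn n4') F.a3
    (by decide) q3 hq0
  have q5 := mem_of_commute_layer (c := 2) hp F.p4 (F.U_norm_W5 (F.W4_le_U F.m44)) F.n4 (tn n5') F.a4
    (by decide) q4 hq0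
  have q6 := mem_of_commute_layer (c := 2) hp F.p5 (F.U_norm_W6 (F.W5_le_U F.m55)) F.n5 (tn n6) F.a5
    (by decide) q5 hq0
  have q7 := mem_of_commute_layer (N := ⊥) (c := 4) (t := F.ta) hp F.p6
    (mem_normalizer_of_forall fun y hy => by simp [Subgroup.mem_bot.1 hy]) (by simpa using F.ne6)
    (fun n hn => by simp [Subgroup.mem_bot.1 hn]) (by rw [F.a6, mul_inv_cancel]; exact one_mem _)
    (by decide) (by rw [sup_bot_eq]; exact q6) hq0
  rw [Subgroup.mem_bot.1 q7, mul_one]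
  exact Subgroup.npow_mem_zpowers _ _

theorem cent_tb {x : G} (hx : x ∈ F.U) (h : Commute x F.tb) : x ∈ Subgroup.zpowers F.u2 := by
  have hp : Nat.Prime 5 := by norm_num
  have tn : ∀ {N : Subgroup G}, F.tb⁻¹ ∈ Subgroup.normalizer (N : Set G) →
      ∀ n ∈ N, F.tb⁻¹ * n * F.tb ∈ N := fun hN n hn => by simpa using conj_mem_of_norm hN hn
  obtain ⟨n6, n5', n4', n3'⟩ := F.tb_norm
  have hQ := mem_of_commute_layer (t := F.tb) (c := 2) hp F.p1 (F.U_norm_Q F.m11) F.n1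
    (tn (inv_mem (F.T_norm_Q F.mtb))) (by rw [F.b1, mul_inv_cancel]; exact one_mem _) (by decide) hx h
  obtain ⟨j, -, r, hr, rfl⟩ := exists_pow_mul (p := 5) (by norm_num) F.p2 (F.U_norm_W3 F.m21) hQ
  have hr0 : Commute r F.tb := by
    have := ((F.b2.pow_right j).symm.inv_left).mul_left h
    rwa [inv_mul_cancel_left] at this
  have q4 := mem_of_commute_layer (c := 2) hp F.p3 (F.U_norm_W4 (F.W3_le_U F.m33)) F.n3 (tn n4') F.b3
    (by decide) hr hr0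
  have q5 := mem_of_commute_layer (c := 4) hp F.p4 (F.U_norm_W5 (F.W4_le_U F.m44)) F.n4 (tn n5') F.b4
    (by decide) q4 hr0
  have q6 := mem_of_commute_layer (c := 3) hp F.p5 (F.U_norm_W6 (F.W5_le_U F.m55)) F.n5 (tn n6) F.b5
    (by decide) q5 hr0
  have q7 := mem_of_commute_layer (N := ⊥) (c := 3) (t := F.tb) hp F.p6
    (mem_normalizer_of_forall fun y hy => by simp [Subgroup.mem_bot.1 hy]) (by simpa using F.ne6)
    (fun n hn => by simp [Subgroup.mem_bot.1 hn]) (by rw [F.b6, mul_inv_cancel]; exact one_mem _)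
    (by decide) (by rw [sup_bot_eq]; exact q6) hr0
  rw [Subgroup.mem_bot.1 q7, mul_one]
  exact Subgroup.npow_mem_zpowers _ _

theorem cent_T {x : G} (hx : x ∈ F.U) (ha : Commute x F.ta) (hb : Commute x F.tb) : x = 1 := by
  have h1 := F.cent_ta hx ha
  have h2 := F.cent_tb hx hb
  obtain ⟨i, rfl⟩ := (isOfFinOrder_of_finite F.u1).mem_powers_iff_mem_zpowers.2 h1
  have h3 : F.u1 ^ i ∈ F.Q := Subgroup.zpowers_le.2 F.m22 h2
  obtain ⟨k, rfl⟩ := pow_mem_imp (by norm_num) F.p1 F.n1 h3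
  show F.u1 ^ (5 * k) = 1
  rw [pow_mul, F.p1, one_pow]

end UFrame

end Cfsg.LyOut55
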