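import Cfsg.Agent.Lib.LyOut55.Basic

set_option autoImplicit false

/-! A Sylow 5-subgroup of `G₂(5)` type with its torus: layers and characteristic subgroups. -/

open scoped commutatorElement

namespace Cfsg.LyOut55

/-- Six root elements and two torus elements with their relations. -/
structure UFrame (G : Type*) [Group G] where
  u1 : G
  u2 : G
  u3 : G
  u4 : G
  u5 : G
  u6 : G
  ta : G
  tb : G
  p1 : u1 ^ 5 = 1
  p2 : u2 ^ 5 = 1
  p3 : u3 ^ 5 = 1
  p4 : u4 ^ 5 = 1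
  p5 : u5 ^ 5 = 1
  p6 : u6 ^ 5 = 1
  ne6 : u6 ≠ 1
  c12 : ⁅u1, u2⁆ = u3
  c13 : ⁅u1, u3⁆ = u4
  c14 : ⁅u1, u4⁆ = u5
  c15 : Commute u1 u5
  c16 : Commute u1 u6
  c23 : ⁅u2, u3⁆ ∈ Subgroup.zpowers u6
  c24 : ⁅u2, u4⁆ ∈ Subgroup.zpowers u6
  c25 : ⁅u2, u5⁆ = u6
  c26 : Commute u2 u6
  c34 : ⁅u3, u4⁆ ∈ Subgroup.zpowers u6
  c35 : Commute u3 u5
  c36 : Commute u3 u6
  c45 : Commute u4 u5
  c46 : Commute u4 u6
  c56 : Commute u5 u6
  ta4 : ta ^ 4 = 1
  tb4 : tb ^ 4 = 1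
  tcomm : Commute ta tb
  a1 : Commute ta u1
  a2 : ta⁻¹ * u2 * ta = u2 ^ 2
  a3 : (ta⁻¹ * u3 * ta) * (u3 ^ 2)⁻¹ ∈
    Subgroup.zpowers u4 ⊔ (Subgroup.zpowers u5 ⊔ Subgroup.zpowers u6)
  a4 : (ta⁻¹ * u4 * ta) * (u4 ^ 2)⁻¹ ∈ Subgroup.zpowers u5 ⊔ Subgroup.zpowers u6
  a5 : (ta⁻¹ * u5 * ta) * (u5 ^ 2)⁻¹ ∈ Subgroup.zpowers u6
  a6 : ta⁻¹ * u6 * ta = u6 ^ 4
  b1 : tb⁻¹ * u1 * tb = u1 ^ 2
  b2 : Commute tb u2
  b3 : (tb⁻¹ * u3 * tb) * (u3 ^ 2)⁻¹ ∈
    Subgroup.zpowers u4 ⊔ (Subgroup.zpowers u5 ⊔ Subgroup.zpowers u6)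
  b4 : (tb⁻¹ * u4 * tb) * (u4 ^ 4)⁻¹ ∈ Subgroup.zpowers u5 ⊔ Subgroup.zpowers u6
  b5 : (tb⁻¹ * u5 * tb) * (u5 ^ 3)⁻¹ ∈ Subgroup.zpowers u6
  b6 : tb⁻¹ * u6 * tb = u6 ^ 3

namespace UFrame

variable {G : Type*} [Group G] (F : UFrame G)

/-- The centre. -/
def W6 : Subgroup G := Subgroup.zpowers F.u6
/-- Height at least four. -/
def W5 : Subgroup G := Subgroup.zpowers F.u5 ⊔ F.W6
/-- Height at least three. -/
def W4 : Subgroup G := Subgroup.zpowers F.u4 ⊔ F.W5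
/-- Height at least two. -/
def W3 : Subgroup G := Subgroup.zpowers F.u3 ⊔ F.W4
/-- The extraspecial subgroup of order `5 ^ 5`. -/
def Q : Subgroup G := Subgroup.zpowers F.u2 ⊔ F.W3
/-- The other unipotent radical. -/
def R : Subgroup G := Subgroup.zpowers F.u1 ⊔ F.W3
/-- The Sylow subgroup. -/
def U : Subgroup G := Subgroup.zpowers F.u1 ⊔ F.Q
/-- The torus. -/
def T : Subgroup G := Subgroup.zpowers F.ta ⊔ Subgroup.zpowers F.tb

theorem m66 : F.u6 ∈ F.W6 := Subgroup.mem_zpowers _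
theorem W6_le_W5 : F.W6 ≤ F.W5 := le_sup_right
theorem W5_le_W4 : F.W5 ≤ F.W4 := le_sup_right
theorem W4_le_W3 : F.W4 ≤ F.W3 := le_sup_right
theorem W3_le_Q : F.W3 ≤ F.Q := le_sup_right
theorem W3_le_R : F.W3 ≤ F.R := le_sup_right
theorem Q_le_U : F.Q ≤ F.U := le_sup_right
theorem W3_le_U : F.W3 ≤ F.U := F.W3_le_Q.trans F.Q_le_U
theorem W4_le_U : F.W4 ≤ F.U := F.W4_le_W3.trans F.W3_le_U
theorem W5_le_U : F.W5 ≤ F.U := F.W5_le_W4.trans F.W4_le_U
theorem W6_le_U : F.W6 ≤ F.U := F.W6_le_W5.trans F.W5_le_U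
theorem m11 : F.u1 ∈ F.U := Subgroup.mem_sup_left (Subgroup.mem_zpowers _)
theorem m22 : F.u2 ∈ F.Q := Subgroup.mem_sup_left (Subgroup.mem_zpowers _)
theorem m21 : F.u2 ∈ F.U := F.Q_le_U F.m22
theorem m33 : F.u3 ∈ F.W3 := Subgroup.mem_sup_left (Subgroup.mem_zpowers _)
theorem m44 : F.u4 ∈ F.W4 := Subgroup.mem_sup_left (Subgroup.mem_zpowers _)
theorem m55 : F.u5 ∈ F.W5 := Subgroup.mem_sup_left (Subgroup.mem_zpowers _)
theorem m1R : F.u1 ∈ F.R := Subgroup.mem_sup_left (Subgroup.mem_zpowers _)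
theorem R_le_U : F.R ≤ F.U := sup_le le_sup_left F.W3_le_U
theorem mta : F.ta ∈ F.T := Subgroup.mem_sup_left (Subgroup.mem_zpowers _)
theorem mtb : F.tb ∈ F.T := Subgroup.mem_sup_right (Subgroup.mem_zpowers _)

theorem U_le_of {H : Subgroup G} (h1 : F.u1 ∈ H) (h2 : F.u2 ∈ H) : F.U ≤ H := by
  have h3 : F.u3 ∈ H := by rw [← F.c12, commutatorElement_def]; aesop
  have h4 : F.u4 ∈ H := by rw [← F.c13, commutatorElement_def]; aesop
  have h5 : F.u5 ∈ H := by rw [← F.c14, commutatorElement_def]; aesop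
  have h6 : F.u6 ∈ H := by rw [← F.c25, commutatorElement_def]; aesop
  simp only [U, Q, W3, W4, W5, W6, sup_le_iff, Subgroup.zpowers_le]
  exact ⟨h1, h2, h3, h4, h5, h6⟩

theorem U_eq_closure : F.U = Subgroup.closure {F.u1, F.u2} :=
  le_antisymm (F.U_le_of (Subgroup.subset_closure (by simp)) (Subgroup.subset_closure (by simp)))
    ((Subgroup.closure_le _).2 (by
      rintro x hx
      rcases hx with rfl | rfl
      · exact F.m11
      · exact F.m21))

section Norm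
variable [Finite G]

theorem norm_W6 {g : G} (h : Commute g F.u6) : g ∈ Subgroup.normalizer (F.W6 : Set G) := by
  refine mem_normalizer_of_forall fun x hx => ?_
  have : Commute g x := commute_zpowers h hx
  rwa [this.eq, mul_inv_cancel_right]

theorem U_norm_W6 : F.U ≤ Subgroup.normalizer (F.W6 : Set G) := by
  simp only [U, Q, W3, W4, W5, sup_le_iff, Subgroup.zpowers_le]
  refine ⟨F.norm_W6 F.c16, F.norm_W6 F.c26, F.norm_W6 F.c36, F.norm_W6 F.c46, F.norm_W6 F.c56, ?_⟩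
  exact Subgroup.zpowers_le.2 (F.norm_W6 (Commute.refl _))

theorem U_norm_W5 : F.U ≤ Subgroup.normalizer (F.W5 : Set G) := by
  refine F.U_le_of ?_ ?_
  · refine norm_of_commutator (F.U_norm_W6 F.m11) ?_
    rw [commutatorElement_eq_one_iff_commute.2 F.c15]
    exact one_mem _
  · refine norm_of_commutator (F.U_norm_W6 F.m21) ?_
    rw [F.c25]
    exact Subgroup.mem_sup_right F.m66

theorem U_norm_W4 : F.U ≤ Subgroup.normalizer (F.W4 : Set G) := by
  refine F.U_le_of ?_ ?_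
  · refine norm_of_commutator (F.U_norm_W5 F.m11) ?_
    rw [F.c14]
    exact Subgroup.mem_sup_right F.m55
  · exact norm_of_commutator (F.U_norm_W5 F.m21) (Subgroup.mem_sup_right (F.W6_le_W5 F.c24))

theorem U_norm_W3 : F.U ≤ Subgroup.normalizer (F.W3 : Set G) := by
  refine F.U_le_of ?_ ?_
  · refine norm_of_commutator (F.U_norm_W4 F.m11) ?_
    rw [F.c13]
    exact Subgroup.mem_sup_right F.m44
  · exact norm_of_commutator (F.U_norm_W4 F.m21)
      (Subgroup.mem_sup_right (F.W5_le_W4 (F.W6_le_W5 F.c23)))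

theorem U_norm_Q : F.U ≤ Subgroup.normalizer (F.Q : Set G) := by
  refine F.U_le_of ?_ ?_
  · refine norm_of_commutator (F.U_norm_W3 F.m11) ?_
    rw [F.c12]
    exact Subgroup.mem_sup_right F.m33
  · refine norm_of_commutator (F.U_norm_W3 F.m21) ?_
    rw [commutatorElement_self]
    exact one_mem _

theorem U_norm_R : F.U ≤ Subgroup.normalizer (F.R : Set G) := by
  refine F.U_le_of ?_ ?_
  · refine norm_of_commutator (F.U_norm_W3 F.m11) ?_
    rw [commutatorElement_self]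
    exact one_mem _
  · refine norm_of_commutator (F.U_norm_W3 F.m21) ?_
    rw [← commutatorElement_inv, F.c12]
    exact Subgroup.mem_sup_right (F.W3.inv_mem F.m33)

/-! ### Non-memberships -/

theorem comm6 {x : G} (hx : x ∈ F.U) : Commute x F.u6 := by
  have h : F.U ≤ Subgroup.centralizer {F.u6} := by
    refine F.U_le_of ?_ ?_
    · exact Subgroup.mem_centralizer_singleton_iff.2 F.c16.eq
    · exact Subgroup.mem_centralizer_singleton_iff.2 F.c26.eq
  exact Subgroup.mem_centralizer_singleton_iff.1 (h hx)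

theorem n5 : F.u5 ∉ F.W6 := by
  intro h
  apply F.ne6
  rw [← F.c25, commutatorElement_eq_one_iff_commute]
  exact commute_zpowers F.c26 h

theorem comm1_W5 {x : G} (hx : x ∈ F.W5) : Commute F.u1 x :=
  commute_of_mem_sup hx (fun _ ha => commute_zpowers F.c15 ha) (fun _ ha => commute_zpowers F.c16 ha)

theorem n4 : F.u4 ∉ F.W5 := by
  intro h
  apply F.n5
  rw [← F.c14, commutatorElement_eq_one_iff_commute.2 (F.comm1_W5 h)]
  exact one_mem _

theorem u1_W4 {x : G} (hx : x ∈ F.W4) : ⁅F.u1, x⁆ ∈ F.W5 := by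
  refine commutator_mem_sup_left (F.W4_le_U.trans F.U_norm_W5) (fun a ha => ?_) (fun a ha => ?_) hx
  · exact commutator_zpow_mem (F.U_norm_W5 (F.W4_le_U F.m44)) (by rw [F.c14]; exact F.m55) ha
  · rw [commutatorElement_eq_one_iff_commute.2 (F.comm1_W5 ha)]; exact one_mem _

theorem n3 : F.u3 ∉ F.W4 := by
  intro h
  exact F.n4 (F.c13 ▸ F.u1_W4 h)

theorem u1_W3 {x : G} (hx : x ∈ F.W3) : ⁅F.u1, x⁆ ∈ F.W4 := by
  refine commutator_mem_sup_left (F.W3_le_U.trans F.U_norm_W4) (fun a ha => ?_) (fun a ha => ?_) hx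
  · exact commutator_zpow_mem (F.U_norm_W4 (F.W3_le_U F.m33)) (by rw [F.c13]; exact F.m44) ha
  · exact F.W5_le_W4 (F.u1_W4 ha)

theorem n2 : F.u2 ∉ F.W3 := by
  intro h
  exact F.n3 (F.c12 ▸ F.u1_W3 h)

theorem n2R : F.u2 ∉ F.R := by
  intro h
  obtain ⟨i, -, n, hn, hi⟩ := exists_pow_mul (p := 5) (by norm_num) F.p1 (F.U_norm_W3 F.m11) h
  apply F.n3
  rw [← F.c12, hi]
  have e : ⁅F.u1, F.u1 ^ i * n⁆ = F.u1 ^ i * ⁅F.u1, n⁆ * (F.u1 ^ i)⁻¹ := by
    simp only [commutatorElement_def]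
    rw [← mul_assoc F.u1, ← pow_succ' F.u1 i, pow_succ F.u1 i]
    group
  rw [e]
  exact conj_mem_of_norm (F.U_norm_W4 (F.U.pow_mem F.m11 i)) (F.u1_W3 hn)

theorem comm4_Q {x : G} (hx : x ∈ F.Q) : ⁅x, F.u4⁆ ∈ F.W6 := by
  have h : ∀ y ∈ F.Q, ⁅F.u4, y⁆ ∈ F.W6 := by
    intro y hy
    refine commutator_mem_sup_left (F.Q_le_U.trans F.U_norm_W6) (fun a ha => ?_) (fun a ha => ?_) hy
    · refine commutator_zpow_mem (F.U_norm_W6 F.m21) ?_ ha
      rw [← commutatorElement_inv]; exact F.W6.inv_mem F.c24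
    refine commutator_mem_sup_left (F.W3_le_U.trans F.U_norm_W6) (fun a ha => ?_) (fun a ha => ?_) ha
    · refine commutator_zpow_mem (F.U_norm_W6 (F.W3_le_U F.m33)) ?_ ha
      rw [← commutatorElement_inv]; exact F.W6.inv_mem F.c34
    refine commutator_mem_sup_left (F.W4_le_U.trans F.U_norm_W6) (fun a ha => ?_) (fun a ha => ?_) ha
    · refine commutator_zpow_mem (F.U_norm_W6 (F.W4_le_U F.m44)) ?_ ha
      rw [commutatorElement_self]; exact one_mem _
    refine commutator_mem_sup_left (F.W5_le_U.trans F.U_norm_W6) (fun a ha => ?_) (fun a ha => ?_) ha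
    · rw [commutatorElement_eq_one_iff_commute.2 (commute_zpowers F.c45 ha)]; exact one_mem _
    · rw [commutatorElement_eq_one_iff_commute.2 (commute_zpowers F.c46 ha)]; exact one_mem _
  rw [← commutatorElement_inv]
  exact F.W6.inv_mem (h x hx)

theorem n1 : F.u1 ∉ F.Q := by
  intro h
  exact F.n5 (F.c14 ▸ F.comm4_Q h)

theorem card_W6 : Nat.card F.W6 = 5 := by
  haveI : Fact (Nat.Prime 5) := ⟨by norm_num⟩
  rw [W6, Nat.card_zpowers, orderOf_eq_prime F.p6 F.ne6]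

theorem card_U : Nat.card F.U = 5 ^ 6 := by
  have hp : Nat.Prime 5 := by norm_num
  rw [U, card_zpowers_sup hp F.p1 (F.U_norm_Q F.m11) F.n1, Q,
    card_zpowers_sup hp F.p2 (F.U_norm_W3 F.m21) F.n2, W3,
    card_zpowers_sup hp F.p3 (F.U_norm_W4 (F.W3_le_U F.m33)) F.n3, W4,
    card_zpowers_sup hp F.p4 (F.U_norm_W5 (F.W4_le_U F.m44)) F.n4, W5,
    card_zpowers_sup hp F.p5 (F.U_norm_W6 (F.W5_le_U F.m55)) F.n5, F.card_W6]
  norm_num

/-! ### Lower central series and centralisers -/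

theorem comm_le_W3 : ⁅F.U, F.U⁆ = F.W3 := by
  have hU2 : ∀ y ∈ F.U, ⁅F.u1, y⁆ ∈ F.W3 ∧ ⁅F.u2, y⁆ ∈ F.W3 := by
    intro y hy
    constructor
    · refine commutator_mem_sup_left F.U_norm_W3 (fun a ha => ?_) (fun a ha => ?_) hy
      · rw [commutatorElement_eq_one_iff_commute.2 (commute_zpowers (Commute.refl _) ha)]
        exact one_mem _
      refine commutator_mem_sup_left (F.Q_le_U.trans F.U_norm_W3) (fun a ha => ?_) (fun a ha => ?_) ha
      · exact commutator_zpow_mem (F.U_norm_W3 F.m21) (by rw [F.c12]; exact F.m33) ha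
      · exact F.W4_le_W3 (F.u1_W3 ha)
    · refine commutator_mem_sup_left F.U_norm_W3 (fun a ha => ?_) (fun a ha => ?_) hy
      · refine commutator_zpow_mem (F.U_norm_W3 F.m11) ?_ ha
        rw [← commutatorElement_inv, F.c12]; exact F.W3.inv_mem F.m33
      refine commutator_mem_sup_left (F.Q_le_U.trans F.U_norm_W3) (fun a ha => ?_) (fun a ha => ?_) ha
      · rw [commutatorElement_eq_one_iff_commute.2 (commute_zpowers (Commute.refl _) ha)]
        exact one_mem _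
      · rw [commutatorElement_def, mul_assoc F.u2 a]
        exact F.W3.mul_mem (by
          rw [← mul_assoc]; exact conj_mem_of_norm (F.U_norm_W3 F.m21) ha) (F.W3.inv_mem ha)
  refine le_antisymm (Subgroup.commutator_le.2 fun x hx y hy => ?_) ?_
  · rw [← commutatorElement_inv]
    refine F.W3.inv_mem ?_
    refine commutator_mem_sup_left F.U_norm_W3 (fun a ha => ?_) (fun a ha => ?_) hx
    · refine commutator_zpow_mem (F.U_norm_W3 F.m11) ?_ ha
      rw [← commutatorElement_inv]; exact F.W3.inv_mem (hU2 y hy).1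
    refine commutator_mem_sup_left (F.Q_le_U.trans F.U_norm_W3) (fun a ha => ?_) (fun a ha => ?_) ha
    · refine commutator_zpow_mem (F.U_norm_W3 F.m21) ?_ ha
      rw [← commutatorElement_inv]; exact F.W3.inv_mem (hU2 y hy).2
    · rw [commutatorElement_def]
      exact F.W3.mul_mem (conj_mem_of_norm (F.U_norm_W3 hy) ha) (F.W3.inv_mem ha)
  · simp only [W3, W4, W5, W6, sup_le_iff, Subgroup.zpowers_le]
    refine ⟨?_, ?_, ?_, ?_⟩
    · rw [← F.c12]; exact Subgroup.commutator_mem_commutator F.m11 F.m21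
    · rw [← F.c13]; exact Subgroup.commutator_mem_commutator F.m11 (F.W3_le_U F.m33)
    · rw [← F.c14]; exact Subgroup.commutator_mem_commutator F.m11 (F.W4_le_U F.m44)
    · rw [← F.c25]; exact Subgroup.commutator_mem_commutator F.m21 (F.W5_le_U F.m55)

/-- Commutators of a normalised subgroup with `U`, from the two generators. -/
theorem comm_U_le {A N : Subgroup G} (hN : F.U ≤ Subgroup.normalizer (N : Set G))
    (h1 : ∀ a ∈ A, ⁅a, F.u1⁆ ∈ N) (h2 : ∀ a ∈ A, ⁅a, F.u2⁆ ∈ N) : ⁅A, F.U⁆ ≤ N := by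
  refine Subgroup.commutator_le.2 fun a ha y hy => ?_
  let S : Subgroup G :=
    { carrier := {y | y ∈ F.U ∧ ⁅a, y⁆ ∈ N}
      one_mem' := ⟨one_mem _, by simp⟩
      mul_mem' := by
        rintro b c ⟨hb, hb'⟩ ⟨hc, hc'⟩
        refine ⟨mul_mem hb hc, ?_⟩
        rw [show ⁅a, b * c⁆ = ⁅a, b⁆ * (b * ⁅a, c⁆ * b⁻¹) by simp only [commutatorElement_def]; group]
        exact N.mul_mem hb' (conj_mem_of_norm (hN hb) hc')
      inv_mem' := by
        rintro b ⟨hb, hb'⟩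
        refine ⟨inv_mem hb, ?_⟩
        rw [show ⁅a, b⁻¹⁆ = b⁻¹ * ⁅a, b⁆⁻¹ * b by simp only [commutatorElement_def]; group]
        exact conj_mem_of_norm' (hN hb) (N.inv_mem hb') }
  exact (F.U_le_of (H := S) ⟨F.m11, h1 a ha⟩ ⟨F.m21, h2 a ha⟩ hy).2

theorem u2_W5 {x : G} (hx : x ∈ F.W5) : ⁅F.u2, x⁆ ∈ F.W6 := by
  refine commutator_mem_sup_left (F.W5_le_U.trans F.U_norm_W6) (fun a ha => ?_) (fun a ha => ?_) hx
  · exact commutator_zpow_mem (F.U_norm_W6 (F.W5_le_U F.m55)) (by rw [F.c25]; exact F.m66) ha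
  · rw [commutatorElement_eq_one_iff_commute.2 (commute_zpowers F.c26 ha)]; exact one_mem _

theorem u2_W4 {x : G} (hx : x ∈ F.W4) : ⁅F.u2, x⁆ ∈ F.W6 := by
  refine commutator_mem_sup_left (F.W4_le_U.trans F.U_norm_W6) (fun a ha => ?_)
    (fun a ha => F.u2_W5 ha) hx
  exact commutator_zpow_mem (F.U_norm_W6 (F.W4_le_U F.m44)) F.c24 ha

theorem u2_W3 {x : G} (hx : x ∈ F.W3) : ⁅F.u2, x⁆ ∈ F.W6 := by
  refine commutator_mem_sup_left (F.W3_le_U.trans F.U_norm_W6) (fun a ha => ?_)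
    (fun a ha => F.u2_W4 ha) hx
  exact commutator_zpow_mem (F.U_norm_W6 (F.W3_le_U F.m33)) F.c23 ha

theorem comm_W3_U : ⁅F.W3, F.U⁆ = F.W4 := by
  refine le_antisymm (F.comm_U_le F.U_norm_W4 (fun a ha => ?_) (fun a ha => ?_)) ?_
  · rw [← commutatorElement_inv]; exact F.W4.inv_mem (F.u1_W3 ha)
  · rw [← commutatorElement_inv]; exact F.W4.inv_mem (F.W5_le_W4 (F.W6_le_W5 (F.u2_W3 ha)))
  · simp only [W4, W5, W6, sup_le_iff, Subgroup.zpowers_le]
    refine ⟨?_, ?_, ?_⟩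
    · rw [← F.c13, ← commutatorElement_inv]
      exact inv_mem (Subgroup.commutator_mem_commutator F.m33 F.m11)
    · rw [← F.c14, ← commutatorElement_inv]
      exact inv_mem (Subgroup.commutator_mem_commutator (F.W4_le_W3 F.m44) F.m11)
    · rw [← F.c25, ← commutatorElement_inv]
      exact inv_mem (Subgroup.commutator_mem_commutator (F.W4_le_W3 (F.W5_le_W4 F.m55)) F.m21)

theorem comm_W4_U : ⁅F.W4, F.U⁆ = F.W5 := by
  refine le_antisymm (F.comm_U_le F.U_norm_W5 (fun a ha => ?_) (fun a ha => ?_)) ?_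
  · rw [← commutatorElement_inv]; exact F.W5.inv_mem (F.u1_W4 ha)
  · rw [← commutatorElement_inv]; exact F.W5.inv_mem (F.W6_le_W5 (F.u2_W4 ha))
  · simp only [W5, W6, sup_le_iff, Subgroup.zpowers_le]
    refine ⟨?_, ?_⟩
    · rw [← F.c14, ← commutatorElement_inv]
      exact inv_mem (Subgroup.commutator_mem_commutator F.m44 F.m11)
    · rw [← F.c25, ← commutatorElement_inv]
      exact inv_mem (Subgroup.commutator_mem_commutator (F.W5_le_W4 F.m55) F.m21)

theorem comm_W5_U : ⁅F.W5, F.U⁆ = F.W6 := by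
  refine le_antisymm (F.comm_U_le F.U_norm_W6 (fun a ha => ?_) (fun a ha => ?_)) ?_
  · rw [← commutatorElement_inv, commutatorElement_eq_one_iff_commute.2 (F.comm1_W5 ha), inv_one]
    exact one_mem _
  · rw [← commutatorElement_inv]; exact F.W6.inv_mem (F.u2_W5 ha)
  · simp only [W6, Subgroup.zpowers_le]
    rw [← F.c25, ← commutatorElement_inv]
    exact inv_mem (Subgroup.commutator_mem_commutator F.m55 F.m21)

theorem W3_comm_W5 {x y : G} (hx : x ∈ F.W3) (hy : y ∈ F.W5) : Commute x y := by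
  refine commute_of_mem_sup hy (fun a ha => ?_)
    (fun a ha => commute_zpowers (F.comm6 (F.W3_le_U hx)) ha)
  refine commute_zpowers ?_ ha
  refine (commute_of_mem_sup hx (fun b hb => commute_zpowers F.c35.symm hb) fun b hb => ?_).symm
  refine commute_of_mem_sup hb (fun c hc => commute_zpowers F.c45.symm hc) fun c hc => ?_
  exact commute_of_mem_sup hc (fun d hd => commute_zpowers (Commute.refl _) hd)
    (fun d hd => commute_zpowers F.c56 hd)

theorem W5_abelian {x y : G} (hx : x ∈ F.W5) (hy : y ∈ F.W5) : Commute x y :=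
  F.W3_comm_W5 (F.W4_le_W3 (F.W5_le_W4 hx)) hy

theorem R_eq {x : G} : x ∈ F.R ↔ x ∈ F.U ∧ ∀ y ∈ F.W5, Commute x y := by
  constructor
  · intro hx
    refine ⟨F.R_le_U hx, fun y hy => (commute_of_mem_sup hx (fun a ha => ?_) fun a ha => ?_).symm⟩
    · exact commute_zpowers (F.comm1_W5 hy).symm ha
    · exact (F.W3_comm_W5 ha hy).symm
  · rintro ⟨hxU, hx⟩
    have hmem : x ∈ Subgroup.zpowers F.u1 ⊔ F.Q := hxU
    obtain ⟨i, -, q, hq, rfl⟩ := exists_pow_mul (p := 5) (by norm_num) F.p1 (F.U_norm_Q F.m11) hmem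
    obtain ⟨j, hj, r, hr, rfl⟩ := exists_pow_mul (p := 5) (by norm_num) F.p2 (F.U_norm_W3 F.m21) hq
    have h2 : Commute (F.u2 ^ j) F.u5 := by
      have h := ((F.comm1_W5 F.m55).pow_left i).inv_left.mul_left (hx F.u5 F.m55)
      rw [inv_mul_cancel_left] at h
      have h' := h.mul_left (F.W3_comm_W5 hr F.m55).inv_left
      rwa [mul_inv_cancel_right] at h'
    have : j = 0 := by
      by_contra hj0
      apply F.ne6
      rw [← F.c25, commutatorElement_eq_one_iff_commute]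
      have hcop : Nat.gcd j 5 = 1 := by interval_cases j <;> simp_all
      have h := Nat.gcd_eq_gcd_ab j 5
      rw [hcop] at h
      have e : F.u2 = (F.u2 ^ j) ^ Nat.gcdA j 5 := by
        conv_lhs => rw [← zpow_one F.u2]
        rw [show (1 : ℤ) = ((1 : ℕ) : ℤ) by norm_num, h, zpow_add, zpow_mul, zpow_mul, zpow_natCast,
          zpow_natCast, F.p2, one_zpow, mul_one]
      rw [e]
      exact h2.zpow_left _
    subst this
    rw [pow_zero, one_mul]
    exact F.R.mul_mem (F.R.pow_mem F.m1R i) (F.W3_le_R hr)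

theorem Q_eq {x : G} : x ∈ F.Q ↔ x ∈ F.U ∧ ∀ y ∈ F.W4, ⁅x, y⁆ ∈ F.W6 := by
  constructor
  · intro hx
    refine ⟨F.Q_le_U hx, fun y hy => ?_⟩
    refine commutator_mem_sup_left (F.W4_le_U.trans F.U_norm_W6) (fun a ha => ?_) (fun a ha => ?_) hy
    · exact commutator_zpow_mem (F.U_norm_W6 (F.W4_le_U F.m44)) (F.comm4_Q hx) ha
    · rw [← commutatorElement_inv]
      refine F.W6.inv_mem ?_
      refine commutator_mem_sup_left (F.Q_le_U.trans F.U_norm_W6) (fun b hb => ?_) (fun b hb => ?_) hx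
      · refine commutator_zpow_mem (F.U_norm_W6 F.m21) ?_ hb
        rw [← commutatorElement_inv]; exact F.W6.inv_mem (F.u2_W5 ha)
      · rw [commutatorElement_eq_one_iff_commute.2 (F.W3_comm_W5 hb ha).symm]; exact one_mem _
  · rintro ⟨hxU, hx⟩
    have hmem : x ∈ Subgroup.zpowers F.u1 ⊔ F.Q := hxU
    obtain ⟨i, hi5, q, hq, rfl⟩ := exists_pow_mul (p := 5) (by norm_num) F.p1 (F.U_norm_Q F.m11) hmem
    have h0 := hx F.u4 F.m44
    have e : ⁅F.u1 ^ i * q, F.u4⁆ =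
        (F.u1 ^ i * ⁅q, F.u4⁆ * (F.u1 ^ i)⁻¹) * ⁅F.u1 ^ i, F.u4⁆ := by
      simp only [commutatorElement_def]; group
    rw [e, Subgroup.mul_mem_cancel_left _
      (conj_mem_of_norm (F.U_norm_W6 (F.U.pow_mem F.m11 i)) (F.comm4_Q hq))] at h0
    have hpow : ∀ k : ℕ, ⁅F.u1 ^ k, F.u4⁆ = F.u5 ^ k := by
      intro k
      induction k with
      | zero => simp
      | succ k ih =>
        rw [pow_succ', show ⁅F.u1 * F.u1 ^ k, F.u4⁆ = F.u1 * ⁅F.u1 ^ k, F.u4⁆ * F.u1⁻¹ * ⁅F.u1, F.u4⁆ by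
          simp only [commutatorElement_def]; group, ih, F.c14, (F.c15.pow_right k).eq,
          mul_inv_cancel_right, ← pow_succ]
    rw [hpow] at h0
    obtain ⟨k, rfl⟩ := pow_mem_imp (by norm_num) F.p5 F.n5 h0
    rw [pow_mul, F.p1, one_pow, one_mul]
    exact hq

/-- An automorphism fixing `U` fixes the characteristic subgroups used below. -/
theorem char {β : MulAut G} (h : F.U.map β.toMonoidHom = F.U) :
    F.Q.map β.toMonoidHom = F.Q ∧ F.R.map β.toMonoidHom = F.R ∧ F.W5.map β.toMonoidHom = F.W5 ∧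
      F.W3.map β.toMonoidHom = F.W3 := by
  have h3 : F.W3.map β.toMonoidHom = F.W3 := by rw [← F.comm_le_W3, Subgroup.map_commutator, h]
  have h4 : F.W4.map β.toMonoidHom = F.W4 := by rw [← F.comm_W3_U, Subgroup.map_commutator, h, h3]
  have h5 : F.W5.map β.toMonoidHom = F.W5 := by rw [← F.comm_W4_U, Subgroup.map_commutator, h, h4]
  have h6 : F.W6.map β.toMonoidHom = F.W6 := by rw [← F.comm_W5_U, Subgroup.map_commutator, h, h5]
  refine ⟨map_eq_of_le fun x hx => ?_, map_eq_of_le fun x hx => ?_, h5, h3⟩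
  · obtain ⟨hxU, hxc⟩ := F.Q_eq.1 hx
    refine F.Q_eq.2 ⟨(apply_mem_iff h).2 hxU, fun y hy => ?_⟩
    obtain ⟨y, hy', rfl⟩ : y ∈ F.W4.map β.toMonoidHom := h4.symm ▸ hy
    show ⁅β x, β y⁆ ∈ F.W6
    rw [← map_commutatorElement]
    exact (apply_mem_iff h6).2 (hxc y hy')
  · obtain ⟨hxU, hxc⟩ := F.R_eq.1 hx
    refine F.R_eq.2 ⟨(apply_mem_iff h).2 hxU, fun y hy => ?_⟩
    obtain ⟨y, hy', rfl⟩ : y ∈ F.W5.map β.toMonoidHom := h5.symm ▸ hy
    exact (hxc y hy').map β.toMonoidHom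

end Norm

end UFrame

end Cfsg.LyOut55
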