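import Cfsg.Agent.Lib.LyDC.Perm

/-! Generated: words and exponent tables for the configuration. -/

set_option autoImplicit false

namespace Cfsg.LyOut55.Wd

/-- generators of the point stabiliser and their inverses -/
def lgW : List (List ℕ) := [[4], [1, 4, 0], [3, 4, 2], [2, 4, 3], [5, 1, 5, 0, 4, 1, 4, 0], [0], [2, 0, 3], [2, 2, 0, 3, 3], [5], [1, 5, 0], [3, 5, 2], [2, 5, 3], [1, 5, 0, 5, 1, 4, 0, 4], [1], [2, 1, 3], [2, 2, 1, 3, 3]]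

/-- their conjugates by `z` -/
def imW : List (List ℕ) := [[1, 3, 1, 2, 5, 3, 0, 5, 2, 0], [3, 3, 0, 4, 1, 2, 4, 2], [1, 3, 1, 4, 0, 2, 0], [3, 1, 2, 4, 3, 0, 2], [2, 2, 1, 3, 4, 2, 0, 4, 3, 3, 5], [1, 1, 1], [2, 1, 3, 1, 1], [0, 2, 2, 0, 3, 3, 1], [1, 3, 4, 1, 2, 4, 3, 0, 2, 0], [3, 5, 3, 0, 5, 1, 2, 2], [1, 3, 1, 5, 0, 2, 0], [3, 1, 2, 5, 3, 0, 2], [4, 2, 2, 5, 1, 3, 5, 2, 0, 3, 3], [0, 0, 0], [0, 0, 2, 0, 3], [0, 2, 2, 1, 3, 3, 1]]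

/-- root element 2 in the generators -/
def s2 : List ℕ := [0, 0, 1, 3, 3, 2, 3]

/-- root element 3 in the generators -/
def s3 : List ℕ := [0, 0, 2, 2, 2, 2, 0]

/-- root element 4 in the generators -/
def s4 : List ℕ := [0, 3, 2, 3, 3]

/-- root element 5 in the generators -/
def s5 : List ℕ := [0, 2, 3, 3, 2]

/-- root element 6 in the generators -/
def s6 : List ℕ := [4, 4]

/-- first torus element -/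
def sa : List ℕ := [5, 5, 5, 5, 5, 5]

/-- second torus element -/
def sb : List ℕ := [6, 7, 5]

/-- Weyl element -/
def sw : List ℕ := [6]

/-- normaliser of the second radical -/
def fW : List ℕ := [2, 2, 2, 4, 4, 3, 3, 4, 4, 3, 1, 5, 0, 4, 1, 4, 0, 6, 4, 2, 0, 3, 6, 4, 6]

/-- six representatives -/
def repsS : List (List ℕ) := [[], [5], [6], [7], [6, 5], [6, 7]]

/-- exponents -/
def c23E : List ℕ := [1]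

/-- exponents -/
def c24E : List ℕ := [1]

/-- exponents -/
def c34E : List ℕ := [4]

/-- exponents -/
def a3E : List ℕ := [0, 0, 1]

/-- exponents -/
def a4E : List ℕ := [0, 4]

/-- exponents -/
def a5E : List ℕ := [0]

/-- exponents -/
def b3E : List ℕ := [1, 0, 0]

/-- exponents -/
def b4E : List ℕ := [4, 3]

/-- exponents -/
def b5E : List ℕ := [0]

/-- exponents -/
def lqE : List (List (List ℕ)) := [[[1, 0, 0, 0, 0], [0, 1, 0, 0, 1], [0, 0, 1, 0, 2], [0, 0, 0, 1, 0], [0, 0, 0, 0, 1]], [[1, 0, 0, 0, 1], [0, 1, 0, 0, 4], [0, 0, 1, 0, 4], [0, 0, 0, 1, 1], [0, 0, 0, 0, 1]], [[1, 0, 0, 0, 1], [0, 1, 0, 0, 3], [0, 0, 1, 0, 2], [0, 0, 0, 1, 0], [0, 0, 0, 0, 1]], [[1, 0, 0, 0, 1], [0, 1, 0, 0, 4], [0, 0, 1, 0, 2], [0, 0, 0, 1, 0], [0, 0, 0, 0, 1]], [[1, 0, 0, 0, 0], [0,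 1, 0, 0, 0], [0, 0, 1, 0, 0], [0, 0, 0, 1, 0], [0, 0, 0, 0, 1]], [[3, 3, 0, 0, 4], [1, 2, 0, 0, 2], [1, 1, 3, 1, 1], [3, 2, 3, 2, 3], [0, 0, 0, 0, 3]], [[0, 0, 0, 4, 0], [3, 1, 3, 1, 4], [3, 2, 4, 4, 1], [3, 0, 0, 0, 0], [0, 0, 0, 0, 3]], [[2, 3, 2, 3, 2], [3, 2, 3, 1, 1], [0, 2, 1, 3, 4], [3, 3, 0, 0, 4], [0, 0, 0, 0, 3]]]

/-- exponents -/
def zqE : List (List ℕ) := [[0, 0, 1, 4, 3], [4, 2, 4, 3, 3], [3, 2, 4, 4, 4], [0, 2, 4, 4, 0], [0, 0, 0, 0, 2]]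

/-- exponents -/
def frE : List (List ℕ) := [[0, 4, 3, 3, 3], [4, 0, 2, 1, 0], [0, 0, 4, 4, 1], [0, 0, 0, 0, 4], [0, 0, 0, 4, 0]]

/-- exponents -/
def wtE : List (List ℕ) := [[1, 0], [3, 3]]

/-- exponents -/
def ftE : List (List ℕ) := [[3, 1], [0, 1]]

/-- target and exponents -/
def covE : List (List (List ℕ)) := [[[0, 0, 0, 0, 0, 3, 1, 1, 3], [1, 0, 0, 0, 1, 2, 3, 4, 4], [2, 0, 0, 0, 0, 0, 4, 1, 2], [3, 0, 0, 0, 1, 3, 0, 3, 3], [4, 0, 0, 0, 1, 3, 0, 3, 3], [5, 0, 0, 0, 4, 3, 2, 1, 3]], [[0, 0, 0, 0, 1, 2, 3, 4, 4], [1, 0, 0, 0, 0, 4, 3, 3, 3], [2, 0, 0, 0, 1, 4, 4, 4, 2], [3, 0, 0, 0, 0, 0, 3, 2, 4], [4, 0, 0, 0, 4, 4, 2, 1, 4], [5, 0, 0, 0, 3, 3, 4, 2, 3]], [[0, 0, 0, 0, 0, 3, 3, 3, 2], [1, 0, 0, 0, 0, 0, 4, 2, 2], [2, 0, 0, 0, 1, 2, 3, 0, 1], [3, 0, 0, 0, 4, 3,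 1, 1, 3], [4, 0, 0, 0, 4, 0, 2, 4, 4], [5, 0, 0, 0, 4, 4, 3, 2, 0]], [[0, 0, 0, 0, 0, 3, 4, 2, 4], [1, 0, 0, 0, 4, 2, 4, 4, 0], [2, 0, 0, 0, 1, 3, 0, 2, 1], [3, 0, 0, 0, 0, 0, 4, 0, 2], [4, 0, 0, 0, 1, 4, 3, 2, 1], [5, 0, 0, 0, 1, 0, 3, 3, 1]], [[0, 0, 0, 0, 0, 0, 0, 0, 3], [1, 0, 0, 0, 0, 0, 0, 0, 1], [2, 0, 0, 0, 0, 0, 0, 0, 1], [3, 0, 0, 0, 0, 0, 0, 0, 1], [4, 0, 0, 0, 0, 0, 0, 0, 2], [5, 0, 0, 0, 0, 0, 0, 0, 2]], [[1, 0, 0, 0, 0, 0, 0, 0, 0], [0, 3, 0, 0, 0, 0, 0, 0, 0], [3, 0, 3, 0, 0, 0, 0, 0, 0], [2, 3, 1, 0, 0, 0, 0, 0, 0], [5, 0, 3, 0, 0, 0, 0, 0, 0], [4, 3, 1, 0, 0, 0, 0, 0, 0]], [[2, 0, 0, 0, 0, 0, 0, 0, 0], [4, 0, 0, 0, 0, 0, 0, 0, 0], [0, 3, 0, 0, 0, 0, 0, 0, 0], [5, 0, 0, 0, 0, 0, 0, 0, 0], [1, 3, 0, 0, 0, 0, 0, 0, 0], [3, 3, 0, 0, 0, 0, 0, 0, 0]], [[3,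 0, 0, 0, 0, 0, 0, 0, 0], [2, 1, 1, 0, 0, 0, 0, 0, 0], [1, 2, 3, 0, 0, 0, 0, 0, 0], [0, 3, 0, 0, 0, 0, 0, 0, 0], [5, 1, 1, 0, 0, 0, 0, 0, 0], [4, 2, 3, 0, 0, 0, 0, 0, 0]]]

/-- witnesses -/
def luE : List ℕ := [5, 5, 6, 7]

end Cfsg.LyOut55.Wd
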